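import Cfsg.Agent.ONOut.AF0
import Cfsg.Agent.ONOut.AF1
import Cfsg.Agent.ONOut.AF2
import Cfsg.Agent.ONOut.AF3

/-! Generated: joining the checks. -/

namespace Cfsg.Agent.ONOut

open Cfsg.Agent.CosetCert

theorem af_ok : ∀ c, c < 240 → (fun i => centTest [[6]] testAF (tWords.getD i [])) c = true :=
  (forall_lt_step (b := 240) (forall_lt_step (b := 220) (forall_lt_step (b := 200) (forall_lt_step (b := 180) (forall_lt_step (b := 160) (forall_lt_step (b := 140) (forall_lt_step (b := 120) (forall_lt_step (b := 100) (forall_lt_step (b := 80) (forall_lt_step (b := 60) (forall_lt_step (b := 40) (forall_lt_step (b := 20) forall_lt_zero af_0 rfl) af_20 rfl) af_40 rfl) af_60 rfl) af_80 rfl) af_100 rfl) af_120 rfl) af_140 rfl) af_160 rfl) af_180 rfl) af_200 rfl) af_220 rfl)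

end Cfsg.Agent.ONOut
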