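import Cfsg.Agent.CosetCert.ONOrder.Main
import Cfsg.Agent.CosetCert.BaseFix

/-!
The presented O'Nan group acting on 122760 points from the right: words are told apart by the
images of three base points, and the stabilizer of the point `0` keeps each suborbit.
-/

set_option autoImplicit false
set_option maxRecDepth 100000

namespace Cfsg.Agent.ONOut

open Cfsg.Agent.CosetCert

/-- The table. -/
noncomputable abbrev tab : Data := ONIndex122760.data

/-- The element of a word in the letters of the table. -/
def el (w : List Nat) : Spor.ON :=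
  PresentedGroup.mk ONOrder.rels (FreeGroup.mk (w.map ONIndex122760.dec))

/-- The subgroup of the table. -/
abbrev subL : Subgroup Spor.ON := Data.sub ONOrder.rels ONIndex122760.subGens

theorem exists_act : ∃ (φ : Spor.ON →* Equiv.Perm (Fin 122760))
    (π : Fin 122760 ≃ Spor.ON ⧸ subL), Function.Injective φ ∧
    (∀ g c, π (φ g c) = g • π c) ∧
    ∀ (l : List (Spor.ON.Gen × Bool)) (c : Fin 122760),
      (((φ (PresentedGroup.mk ONOrder.rels (FreeGroup.mk l)))⁻¹ c : Fin 122760) : Nat) =
        tab.fwd (l.map (Data.code tab.iv ONIndex122760.enc)) c := by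
  obtain ⟨φ, π, hπ, hfwd⟩ := Data.enumeration ONIndex122760.valid ONIndex122760.spells
  exact ⟨φ, π, (Data.order_eq ONIndex122760.valid ONIndex122760.spells φ hfwd ONOrder.card_bound.1
    ONOrder.card_bound.2 ONOrder.levels ONOrder.levels_ok (by decide +kernel)).1, hπ, hfwd⟩

/-- The action. -/
noncomputable def act : Spor.ON →* Equiv.Perm (Fin 122760) := exists_act.choose

/-- The points as cosets. -/
noncomputable def pts : Fin 122760 ≃ Spor.ON ⧸ subL := exists_act.choose_spec.choose

theorem act_inj : Function.Injective act := exists_act.choose_spec.choose_spec.1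

theorem pts_act (g : Spor.ON) (c : Fin 122760) : pts (act g c) = g • pts c :=
  exists_act.choose_spec.choose_spec.2.1 g c

theorem act_fwd (l : List (Spor.ON.Gen × Bool)) (c : Fin 122760) :
    (((act (PresentedGroup.mk ONOrder.rels (FreeGroup.mk l)))⁻¹ c : Fin 122760) : Nat) =
      tab.fwd (l.map (Data.code tab.iv ONIndex122760.enc)) c :=
  exists_act.choose_spec.choose_spec.2.2 l c

instance : Finite Spor.ON := ONOrder.card_bound.1

theorem code_dec {w : List Nat} (hw : ∀ x ∈ w, x < 8) :
    (w.map ONIndex122760.dec).map (Data.code tab.iv ONIndex122760.enc) = w := by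
  rw [List.map_map]
  conv_rhs => rw [← List.map_id w]
  exact List.map_congr_left fun x hx => ONIndex122760.spells.code_dec x (hw x hx)

/-- The image of a point, acting from the right. -/
noncomputable def img (g : Spor.ON) (c : Nat) : Nat :=
  if h : c < 122760 then (((act g)⁻¹ ⟨c, h⟩ : Fin 122760) : Nat) else c

theorem img_lt (g : Spor.ON) {c : Nat} (hc : c < 122760) : img g c < 122760 := by
  rw [img, dif_pos hc]; exact ((act g)⁻¹ ⟨c, hc⟩).2

theorem img_el {w : List Nat} (hw : ∀ x ∈ w, x < 8) {c : Nat} (hc : c < 122760) :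
    img (el w) c = tab.fwd w c := by
  have := act_fwd (w.map ONIndex122760.dec) ⟨c, hc⟩
  rw [code_dec hw] at this
  rw [img, dif_pos hc]
  exact this

theorem img_one (c : Nat) : img 1 c = c := by
  unfold img; split <;> simp

theorem img_mul (g h : Spor.ON) (c : Nat) : img (g * h) c = img h (img g c) := by
  by_cases hc : c < 122760
  · rw [img, dif_pos hc, img, dif_pos (img_lt g hc)]
    simp only [img, dif_pos hc]
    rw [map_mul, mul_inv_rev, Equiv.Perm.mul_apply]
  · simp only [img, dif_neg hc]

theorem img_injective (g : Spor.ON) : Function.Injective (img g) := by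
  intro a b h
  have := congrArg (img g⁻¹) h
  rwa [← img_mul, ← img_mul, mul_inv_cancel, img_one, img_one] at this

theorem el_append (u v : List Nat) : el (u ++ v) = el u * el v := by
  rw [el, el, el, List.map_append, ← FreeGroup.mul_mk, map_mul]

theorem el_nil : el [] = 1 := by
  rw [el, List.map_nil, ← FreeGroup.one_eq_mk, map_one]

theorem eq_of_img {g h : Spor.ON} (H : ∀ c, c < 122760 → img g c = img h c) : g = h := by
  apply act_inj
  apply inv_injective
  ext c
  have := H c c.2
  simpa [img] using this

theorem exists_el (g : Spor.ON) : ∃ w : List Nat, (∀ x ∈ w, x < 8) ∧ el w = g := by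
  obtain ⟨f, rfl⟩ := PresentedGroup.mk_surjective ONOrder.rels g
  rcases f with ⟨l⟩
  have hw : ∀ x ∈ l.map (Data.code tab.iv ONIndex122760.enc), x < 8 := by
    intro x hx
    obtain ⟨⟨b, s⟩, -, rfl⟩ := List.mem_map.1 hx
    cases s <;> cases b <;> decide
  refine ⟨_, hw, eq_of_img fun c hc => ?_⟩
  rw [img_el hw hc, img, dif_pos hc]
  exact (act_fwd l ⟨c, hc⟩).symm

/-- The base points decide. -/
theorem base_ext {g h : Spor.ON} (h0 : img g 0 = img h 0) (h1 : img g 1 = img h 1)
    (h2 : img g 107384 = img h 107384) : g = h := by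
  obtain ⟨w, hw, hwe⟩ := exists_el (g * h⁻¹)
  have e : ∀ c, c < 122760 → img g c = img h c → tab.fwd w c = c := by
    intro c hc hgh
    rw [← img_el hw hc, hwe, img_mul, hgh, ← img_mul, mul_inv_cancel, img_one]
  have h' := Data.eq_one_of_fixes_bases ONIndex122760.valid ONIndex122760.spells act act_fwd
    ONOrder.card_bound.1 ONOrder.card_bound.2 (by norm_num) ONOrder.levels ONOrder.levels_ok
    (by decide +kernel) (w.map ONIndex122760.dec) (by
      rw [code_dec hw]
      exact List.all_eq_true.2 fun x hx => Nat.ble_eq.mpr (hw x hx)) (by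
      rw [code_dec hw]
      simp only [show ONOrder.levels.map Data.Level.base = [0, 1, 107384] from rfl, List.all_cons,
        List.all_nil, Bool.and_true, Bool.and_eq_true]
      exact ⟨Nat.beq_eq ▸ e 0 (by norm_num) h0, Nat.beq_eq ▸ e 1 (by norm_num) h1,
        Nat.beq_eq ▸ e 107384 (by norm_num) h2⟩)
  have : g * h⁻¹ = 1 := hwe.symm.trans h'
  exact mul_inv_eq_one.1 this

/-- Two words with the same images of the base points. -/
noncomputable def eqW (u v : List Nat) : Bool :=
  gate (Nat.beq (tab.fwd u 0) (tab.fwd v 0))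
    (gate (Nat.beq (tab.fwd u 1) (tab.fwd v 1))
      (Nat.beq (tab.fwd u 107384) (tab.fwd v 107384)))

theorem eqW_iff {u v : List Nat} (hu : ∀ x ∈ u, x < 8) (hv : ∀ x ∈ v, x < 8) :
    eqW u v = true ↔ el u = el v := by
  simp only [eqW, gate_eq, Bool.and_eq_true, Nat.beq_eq]
  constructor
  · rintro ⟨a, b, c⟩
    refine base_ext ?_ ?_ ?_ <;> rw [img_el hu (by norm_num), img_el hv (by norm_num)] <;> assumption
  · intro h
    refine ⟨?_, ?_, ?_⟩ <;> rw [← img_el hu (by norm_num), ← img_el hv (by norm_num), h]

theorem el_eq {u v : List Nat} (h : eqW u v = true)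
    (hu : u.all (fun x => Nat.blt x 8) = true := by decide +kernel)
    (hv : v.all (fun x => Nat.blt x 8) = true := by decide +kernel) : el u = el v :=
  (eqW_iff (fun x hx => Nat.ble_eq.mp (List.all_eq_true.1 hu x hx))
    (fun x hx => Nat.ble_eq.mp (List.all_eq_true.1 hv x hx))).1 h

theorem el_ne {u v : List Nat} (h : eqW u v = false)
    (hu : u.all (fun x => Nat.blt x 8) = true := by decide +kernel)
    (hv : v.all (fun x => Nat.blt x 8) = true := by decide +kernel) : el u ≠ el v := fun e => by
  rw [(eqW_iff (fun x hx => Nat.ble_eq.mp (List.all_eq_true.1 hu x hx))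
    (fun x hx => Nat.ble_eq.mp (List.all_eq_true.1 hv x hx))).2 e] at h
  cases h

theorem mem_subL_iff (g : Spor.ON) : g ∈ subL ↔ img g 0 = 0 := by
  classical
  let St : Subgroup Spor.ON :=
    { carrier := {x | img x 0 = 0}
      one_mem' := img_one 0
      mul_mem' := fun {a b} ha hb => by
        show img (a * b) 0 = 0
        rw [img_mul, show img a 0 = 0 from ha]; exact hb
      inv_mem' := fun {a} ha => by
        show img a⁻¹ 0 = 0
        conv_lhs => rw [← (show img a 0 = 0 from ha)]
        rw [← img_mul, mul_inv_cancel, img_one] }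
  have hle : subL ≤ St := by
    rintro _ ⟨s, hs, rfl⟩
    have : Subgroup.closure {s | s ∈ ONIndex122760.subGens} ≤
        St.comap (PresentedGroup.mk ONOrder.rels) := by
      rw [Subgroup.closure_le]
      intro t ht
      show img _ 0 = 0
      have hd : (ONIndex122760.subGens.all fun t =>
          Nat.beq (tab.fwd (t.toWord.map (Data.code tab.iv ONIndex122760.enc)) 0) 0) = true := by
        decide +kernel
      have h1 := Nat.eq_of_beq_eq_true (List.all_eq_true.1 hd t ht)
      rw [img, dif_pos (by norm_num)]
      have h2 := act_fwd t.toWord ⟨0, by norm_num⟩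
      rw [FreeGroup.mk_toWord] at h2
      exact h2.trans h1
    exact this hs
  have heq : subL = St := by
    obtain ⟨g₀, hg₀⟩ := QuotientGroup.mk_surjective (pts ⟨0, by norm_num⟩)
    have hmem : ∀ x, x ∈ St → g₀⁻¹ * x * g₀ ∈ subL := by
      intro x hx
      have h1 : act x ⟨0, by norm_num⟩ = ⟨0, by norm_num⟩ := by
        have : ((act x)⁻¹ ⟨0, by norm_num⟩ : Fin 122760) = ⟨0, by norm_num⟩ := by
          apply Fin.ext
          have h2 : img x 0 = 0 := hx
          rwa [img, dif_pos (by norm_num)] at h2
        rw [Equiv.Perm.inv_eq_iff_eq] at this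
        exact this.symm
      have h2 := pts_act x ⟨0, by norm_num⟩
      rw [h1, ← hg₀, MulAction.Quotient.smul_mk, eq_comm, QuotientGroup.eq, smul_eq_mul] at h2
      have h3 : g₀⁻¹ * x * g₀ = ((x * g₀)⁻¹ * g₀)⁻¹ := by group
      rw [h3]; exact inv_mem h2
    refine Subgroup.eq_of_le_of_card_ge hle ?_
    refine Nat.card_le_card_of_injective
      (fun x : St => (⟨g₀⁻¹ * x.1 * g₀, hmem x.1 x.2⟩ : subL)) fun a b hab => ?_
    have := congrArg Subtype.val hab
    simpa using this
  rw [heq]
  rfl

/-- Whether a point is in the smallest suborbit kept here. -/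
noncomputable def inOrb (c : Nat) : Bool := ONIndex122760.orbSet3.testBit c

/-- An element fixing `0` keeps the suborbit. -/
theorem inOrb_img {g : Spor.ON} (hg : img g 0 = 0) {c : Nat} (hc : c < 122760) :
    inOrb (img g c) = inOrb c := by
  have key : ∀ g ∈ subL, ∀ c : Fin 122760, inOrb c = true →
      inOrb (((act g)⁻¹ c : Fin 122760) : Nat) = true := by
    intro g hg c hc
    have e := Data.orbit_eq ONIndex122760.valid ONIndex122760.spells act pts pts_act act_fwd
      ONIndex122760.orbSet3 31 (get48 ONIndex122760.orbStore3) ONIndex122760.orb3_root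
      ONIndex122760.orb3_ok
    have h1 : pts c ∈ MulAction.orbit subL (pts ⟨31, ONIndex122760.orb3_root.1⟩) := by
      exact e.symm.subset ⟨c, hc, rfl⟩
    have h2 : pts ((act g)⁻¹ c) ∈ MulAction.orbit subL (pts ⟨31, ONIndex122760.orb3_root.1⟩) := by
      rw [show (act g)⁻¹ = act g⁻¹ from (map_inv act g).symm, pts_act]
      exact MulAction.mem_orbit_of_mem_orbit (⟨g⁻¹, inv_mem hg⟩ : subL) h1
    replace h2 := e.subset h2
    obtain ⟨d, hd, hde⟩ := h2
    rw [← pts.injective hde]; exact hd
  have hg' := (mem_subL_iff g).2 hg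
  have hi : ∀ g ∈ subL, ∀ c, c < 122760 → inOrb c = true → inOrb (img g c) = true := by
    intro g hg c hc h
    rw [img, dif_pos hc]
    exact key g hg ⟨c, hc⟩ h
  cases h : inOrb c
  · apply eq_false_of_ne_true
    intro h'
    have := hi g⁻¹ (inv_mem hg') _ (img_lt g hc) h'
    rw [← img_mul, mul_inv_cancel, img_one, h] at this
    cases this
  · exact hi g hg' c hc h

end Cfsg.Agent.ONOut
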