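import Cfsg.Agent.ONOut.Defs

/-! Generated: kernel checks. -/

set_option Elab.async false
set_option maxRecDepth 100000

namespace Cfsg.Agent.ONOut

open Cfsg.Agent.CosetCert

theorem fix_36000 : allFrom (checkFix) 36000 6000 = true := by decide +kernel

theorem fix_42000 : allFrom (checkFix) 42000 6000 = true := by decide +kernel

theorem fix_48000 : allFrom (checkFix) 48000 6000 = true := by decide +kernel

theorem fix_54000 : allFrom (checkFix) 54000 6000 = true := by decide +kernel

theorem fix_60000 : allFrom (checkFix) 60000 6000 = true := by decide +kernel

theorem fix_66000 : allFrom (checkFix) 66000 6000 = true := by decide +kernel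

end Cfsg.Agent.ONOut
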