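import Cfsg.Agent.ONOut.Fix0
import Cfsg.Agent.ONOut.Fix1
import Cfsg.Agent.ONOut.Fix2
import Cfsg.Agent.ONOut.Fix3

/-! Generated: joining the checks. -/

namespace Cfsg.Agent.ONOut

open Cfsg.Agent.CosetCert

theorem fix_ok : ∀ c, c < 122760 → (checkFix) c = true :=
  (forall_lt_step (b := 122760) (forall_lt_step (b := 120000) (forall_lt_step (b := 114000) (forall_lt_step (b := 108000) (forall_lt_step (b := 102000) (forall_lt_step (b := 96000) (forall_lt_step (b := 90000) (forall_lt_step (b := 84000) (forall_lt_step (b := 78000) (forall_lt_step (b := 72000) (forall_lt_step (b := 66000) (forall_lt_step (b := 60000) (forall_lt_step (b := 54000) (forall_lt_step (b := 48000) (forall_lt_step (b := 42000) (forall_lt_step (b := 36000) (forall_lt_step (b := 30000) (forall_lt_step (b := 24000) (forall_lt_step (b := 18000) (forall_lt_step (b := 12000) (forall_lt_step (b := 6000) forall_lt_zero fix_0 rfl) fix_6000 rfl) fix_12000 rfl) fix_18000 rfl) fix_24000 rfl) fix_30000 rfl) fix_36000 rfl) fix_42000 rfl) fix_48000 rfl) fix_54000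 rfl) fix_60000 rfl) fix_66000 rfl) fix_72000 rfl) fix_78000 rfl) fix_84000 rfl) fix_90000 rfl) fix_96000 rfl) fix_102000 rfl) fix_108000 rfl) fix_114000 rfl) fix_120000 rfl)

end Cfsg.Agent.ONOut
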