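import Cfsg.Agent.ONOut.Defs

/-! Generated: kernel checks. -/

set_option Elab.async false
set_option maxRecDepth 100000

namespace Cfsg.Agent.ONOut

open Cfsg.Agent.CosetCert

theorem pone_72000 : allFrom (checkP1) 72000 6000 = true := by decide +kernel

theorem pone_78000 : allFrom (checkP1) 78000 6000 = true := by decide +kernel

theorem pone_84000 : allFrom (checkP1) 84000 6000 = true := by decide +kernel

theorem pone_90000 : allFrom (checkP1) 90000 6000 = true := by decide +kernel

theorem pone_96000 : allFrom (checkP1) 96000 6000 = true := by decide +kernel

theorem pone_102000 : allFrom (checkP1) 102000 6000 = true := by decide +kernel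

end Cfsg.Agent.ONOut
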