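import Cfsg.Agent.ONOut.Defs

/-! Generated: kernel checks. -/

set_option Elab.async false
set_option maxRecDepth 100000

namespace Cfsg.Agent.ONOut

open Cfsg.Agent.CosetCert

theorem ucheck_96 : allFrom (fun i => checkU (t1Words.getD i [])) 96 12 = true := by decide +kernel

theorem ucheck_108 : allFrom (fun i => checkU (t1Words.getD i [])) 108 12 = true := by decide +kernel

theorem ucheck_120 : allFrom (fun i => checkU (t1Words.getD i [])) 120 12 = true := by decide +kernel

theorem ucheck_132 : allFrom (fun i => checkU (t1Words.getD i [])) 132 12 = true := by decide +kernel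

end Cfsg.Agent.ONOut
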