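import Cfsg.Agent.ONOut.UCheck0
import Cfsg.Agent.ONOut.UCheck1
import Cfsg.Agent.ONOut.UCheck2
import Cfsg.Agent.ONOut.UCheck3

/-! Generated: joining the checks. -/

namespace Cfsg.Agent.ONOut

open Cfsg.Agent.CosetCert

theorem ucheck_ok : ∀ c, c < 189 → (fun i => checkU (t1Words.getD i [])) c = true :=
  (forall_lt_step (b := 189) (forall_lt_step (b := 180) (forall_lt_step (b := 168) (forall_lt_step (b := 156) (forall_lt_step (b := 144) (forall_lt_step (b := 132) (forall_lt_step (b := 120) (forall_lt_step (b := 108) (forall_lt_step (b := 96) (forall_lt_step (b := 84) (forall_lt_step (b := 72) (forall_lt_step (b := 60) (forall_lt_step (b := 48) (forall_lt_step (b := 36) (forall_lt_step (b := 24) (forall_lt_step (b := 12) forall_lt_zero ucheck_0 rfl) ucheck_12 rfl) ucheck_24 rfl) ucheck_36 rfl) ucheck_48 rfl) ucheck_60 rfl) ucheck_72 rfl) ucheck_84 rfl) ucheck_96 rfl) ucheck_108 rfl) ucheck_120 rfl) ucheck_132 rfl) ucheck_144 rfl) ucheck_156 rfl) ucheck_168 rfl) ucheck_180 rfl)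

end Cfsg.Agent.ONOut
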