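import Cfsg.Agent.ONOut.Misc
import Cfsg.Agent.ONOut.FixAll
import Cfsg.Agent.ONOut.POneAll
import Cfsg.Agent.ONOut.UCheckAll

/-!
The centraliser of `a`: every element is a word `u ++ t` with `u` fixing `0`.
-/

set_option autoImplicit false

namespace Cfsg.Agent.ONOut

open Cfsg.Agent.CosetCert

theorem lt_of_okW {w : List Nat} (h : okW w = true) : ∀ x ∈ w, x < 8 := fun x hx =>
  Nat.ble_eq.mp (List.all_eq_true.1 h x hx)

theorem okW_append {u v : List Nat} (hu : okW u = true) (hv : okW v = true) :
    okW (u ++ v) = true := by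
  simp only [okW, List.all_append, Bool.and_eq_true] at *
  exact ⟨hu, hv⟩

theorem memN_iff {x : Nat} {l : List Nat} : memN x l = true ↔ x ∈ l := by
  simp [memN]

theorem eq_iff {u v : List Nat} (hu : okW u = true) (hv : okW v = true) :
    eqW u v = true ↔ el u = el v := eqW_iff (lt_of_okW hu) (lt_of_okW hv)

theorem com_iff {u v : List Nat} (hu : okW u = true) (hv : okW v = true) :
    com u v = true ↔ el u * el v = el v * el u := by
  rw [com, eq_iff (okW_append hu hv) (okW_append hv hu), el_append, el_append]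

theorem words {l : List (List Nat)} (h : l.all okW = true) {w : List Nat} (hw : w ∈ l) :
    okW w = true := List.all_eq_true.1 h w hw

theorem ok_lists : uWords.all okW = true ∧ tWords.all okW = true ∧ hWords.all okW = true ∧
    t1Words.all okW = true ∧ cafWords.all okW = true ∧ eWords.all okW = true ∧
    sWords.all okW = true ∧ sGens.all okW = true ∧ omWords.all okW = true ∧
    cReps.all okW = true ∧ hgWords.all okW = true ∧ hwWords.all okW = true := by
  have h := words_ok
  simp only [Bool.and_eq_true] at h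
  obtain ⟨⟨⟨⟨⟨⟨⟨⟨⟨⟨⟨a, b⟩, c⟩, d⟩, e⟩, f⟩, g⟩, i⟩, j⟩, k⟩, l⟩, m⟩ := h
  exact ⟨a, b, c, d, e, f, g, i, j, k, l, m⟩

/-- The key of an element. -/
noncomputable def keyE (g : Spor.ON) : Nat :=
  img g 0 + 1048576 * (img g 1 + 1048576 * img g 107384)

theorem keyE_el {w : List Nat} (hw : okW w = true) : kW w = keyE (el w) := by
  rw [keyE, img_el (lt_of_okW hw) (by norm_num), img_el (lt_of_okW hw) (by norm_num),
    img_el (lt_of_okW hw) (by norm_num)]
  rfl

theorem keyE_inj : Function.Injective keyE := by
  intro g h hgh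
  have a := img_lt g (c := 0) (by norm_num)
  have b := img_lt g (c := 1) (by norm_num)
  have a' := img_lt h (c := 0) (by norm_num)
  have b' := img_lt h (c := 1) (by norm_num)
  unfold keyE at hgh
  refine base_ext ?_ ?_ ?_ <;> omega

/-- A word with a listed key is a listed element. -/
theorem memK_spec {w : List Nat} {l : List (List Nat)} {ks : List Nat} (hw : okW w = true)
    (hl : l.all okW = true) (hk : l.map kW = ks) (h : memK w ks = true) :
    ∃ v ∈ l, el v = el w := by
  rw [memK, force_eq, memN_iff, ← hk, List.mem_map] at h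
  obtain ⟨v, hv, hvk⟩ := h
  exact ⟨v, hv, keyE_inj (by rw [← keyE_el (words hl hv), hvk, keyE_el hw])⟩

theorem okW_one : okW [1] = true ∧ okW [6] = true := by constructor <;> decide +kernel

theorem card_subL : Nat.card subL = 3753792 := by
  have h := Subgroup.card_mul_index subL
  have hi : subL.index = 122760 := ONIndex122760.index_val
  rw [hi, show Nat.card Spor.ON = 460815505920 from ONOrder.order_and_simple.2] at h
  exact Nat.eq_of_mul_eq_mul_right (by norm_num : 0 < 122760) (h.trans (by norm_num))

/-- The elements fixing `0` and `1` are listed. -/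
theorem mem_hWords {g : Spor.ON} (h0 : img g 0 = 0) (h1 : img g 1 = 1) :
    ∃ h ∈ hWords, el h = g := by
  classical
  let S : Subgroup Spor.ON :=
    { carrier := {x | img x 0 = 0 ∧ img x 1 = 1}
      one_mem' := ⟨img_one 0, img_one 1⟩
      mul_mem' := fun {a b} ha hb => by
        show img (a * b) 0 = 0 ∧ img (a * b) 1 = 1
        rw [img_mul, img_mul, show img a 0 = 0 from ha.1, show img a 1 = 1 from ha.2]
        exact hb
      inv_mem' := fun {a} ha => by
        show img a⁻¹ 0 = 0 ∧ img a⁻¹ 1 = 1
        constructor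
        · conv_lhs => rw [← (show img a 0 = 0 from ha.1)]
          rw [← img_mul, mul_inv_cancel, img_one]
        · conv_lhs => rw [← (show img a 1 = 1 from ha.2)]
          rw [← img_mul, mul_inv_cancel, img_one] }
  let O : Set (Fin 122760) := {c | ONIndex122760.orbSet0.testBit c}
  have hO : Nat.card O = 58653 := by
    rw [Nat.card_coe_set_eq, ← Data.count_eq]
    exact ONIndex122760.orb0_count
  have horb : ∀ c : O, ∃ x : Spor.ON, img x 0 = 0 ∧ img x 1 = (c : Fin 122760) := by
    intro c
    have e := Data.orbit_eq ONIndex122760.valid ONIndex122760.spells act pts pts_act act_fwd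
      ONIndex122760.orbSet0 1 (get48 ONIndex122760.orbStore0) ONIndex122760.orb0_root
      ONIndex122760.orb0_ok
    have hc : pts c.1 ∈ MulAction.orbit subL (pts ⟨1, ONIndex122760.orb0_root.1⟩) := by
      exact e.symm.subset ⟨c.1, c.2, rfl⟩
    obtain ⟨⟨x, hx⟩, hxc⟩ := hc
    refine ⟨x⁻¹, (mem_subL_iff _).1 (inv_mem hx), ?_⟩
    rw [img, dif_pos (by norm_num), map_inv, inv_inv]
    exact congrArg Fin.val (pts.injective ((pts_act x _).trans hxc))
  choose tr htr using horb
  have hinj : Nat.card (S × O) ≤ Nat.card subL := by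
    refine Nat.card_le_card_of_injective (fun p : S × O => (⟨p.1.1 * tr p.2,
      (mem_subL_iff _).2 (by rw [img_mul, p.1.2.1, (htr _).1])⟩ : subL)) ?_
    rintro ⟨s, c⟩ ⟨s', c'⟩ h
    have h' : s.1 * tr c = s'.1 * tr c' := congrArg Subtype.val h
    have hcc : c = c' := by
      have := congrArg (fun x => img x 1) h'
      simp only [img_mul, s.2.2, s'.2.2, (htr _).2] at this
      exact Subtype.ext (Fin.ext this)
    subst hcc
    exact Prod.ext (Subtype.ext (mul_right_cancel h')) rfl
  rw [Nat.card_prod, hO, card_subL] at hinj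
  obtain ⟨hnd, hlen, hfix⟩ := h_spec
  have hmem : ∀ i : Fin hWords.length, el hWords[i] ∈ S := by
    intro i
    have hw := words ok_lists.2.2.1 (List.getElem_mem i.2)
    have h := List.all_eq_true.1 hfix _ (List.getElem_mem i.2)
    rw [Bool.and_eq_true, Nat.beq_eq, Nat.beq_eq] at h
    exact ⟨(img_el (lt_of_okW hw) (by norm_num)).trans h.1,
      (img_el (lt_of_okW hw) (by norm_num)).trans h.2⟩
  let f : Fin hWords.length → S := fun i => ⟨el hWords[i], hmem i⟩
  have hf : Function.Injective f := by
    intro i j hij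
    have he : el hWords[i] = el hWords[j] := congrArg Subtype.val hij
    have hk : kW hWords[(i : Nat)] = kW hWords[(j : Nat)] := by
      rw [keyE_el (words ok_lists.2.2.1 (List.getElem_mem i.2)),
        keyE_el (words ok_lists.2.2.1 (List.getElem_mem j.2))]
      exact congrArg keyE he
    apply Fin.ext
    refine (List.Nodup.getElem_inj_iff hnd (hi := by simp) (hj := by simp)).1 ?_
    simpa using hk
  have hb := (Nat.bijective_iff_injective_and_card f).2 ⟨hf, by
    have h1 := Nat.card_le_card_of_injective f hf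
    rw [Nat.card_fin, hlen] at h1 ⊢
    omega⟩
  obtain ⟨i, hi⟩ := hb.2 ⟨g, h0, h1⟩
  exact ⟨_, List.getElem_mem i.2, congrArg Subtype.val hi⟩

/-- The elements commuting with `a` and fixing `0` are listed. -/
theorem mem_uWords {g : Spor.ON} (h0 : img g 0 = 0) (hg : g * el [1] = el [1] * g) :
    ∃ u ∈ uWords, el u = g := by
  obtain ⟨-, -, hH, hT1, -⟩ := ok_lists
  obtain ⟨hmap, hlen, hfix⟩ := t1_spec
  have hp : img g 1 < 122760 := img_lt g (by norm_num)
  have h11 : img (el [1]) 1 = 1 := by
    rw [img_el (lt_of_okW okW_one.1) (by norm_num)]; decide +kernel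
  have hfp : tab.T (img g 1) 1 = img g 1 := by
    have h : img (g * el [1]) 1 = img (el [1] * g) 1 := by rw [hg]
    rw [img_mul, img_mul, h11, img_el (lt_of_okW okW_one.1) hp] at h
    simpa [Data.fwd] using h
  have horb : ONIndex122760.orbSet0.testBit (img g 1) = true := by
    have e := Data.orbit_eq ONIndex122760.valid ONIndex122760.spells act pts pts_act act_fwd
      ONIndex122760.orbSet0 1 (get48 ONIndex122760.orbStore0) ONIndex122760.orb0_root
      ONIndex122760.orb0_ok
    have h : pts ((act g)⁻¹ ⟨1, ONIndex122760.orb0_root.1⟩) ∈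
        MulAction.orbit subL (pts ⟨1, ONIndex122760.orb0_root.1⟩) := by
      rw [show (act g)⁻¹ = act g⁻¹ from (map_inv act g).symm, pts_act]
      exact ⟨⟨g⁻¹, inv_mem ((mem_subL_iff g).2 h0)⟩, rfl⟩
    replace h := e.subset h
    obtain ⟨d, hd, hde⟩ := h
    rw [img, dif_pos (by norm_num), ← pts.injective hde]
    exact hd
  have h := pone_ok _ hp
  simp only [checkP1, horb, Nat.beq_eq.mpr hfp, Bool.not_true, Bool.false_or, memN_iff] at h
  rw [← hmap, List.mem_map] at h
  obtain ⟨t, ht, htp⟩ := h
  obtain ⟨i, hi, rfl⟩ := List.getElem_of_mem ht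
  have htw := words hT1 ht
  have ht0 : img (el t1Words[i]) 0 = 0 := (img_el (lt_of_okW htw) (by norm_num)).trans
    (Nat.eq_of_beq_eq_true (List.all_eq_true.1 hfix _ ht))
  have ht1 : img (el t1Words[i]) 1 = img g 1 :=
    (img_el (lt_of_okW htw) (by norm_num)).trans htp
  obtain ⟨v, hv, hve⟩ := mem_hWords (g := g * (el t1Words[i])⁻¹)
    (by rw [img_mul, h0]; conv_lhs => rw [← ht0]
        rw [← img_mul, mul_inv_cancel, img_one])
    (by rw [img_mul, ← ht1, ← img_mul, mul_inv_cancel, img_one])
  have hvt := okW_append (words hH hv) htw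
  have e : el (v ++ t1Words[i]) = g := by rw [el_append, hve, inv_mul_cancel_right]
  have hc := ucheck_ok i (hlen ▸ hi)
  simp only [List.getD_eq_getElem _ _ hi, checkU] at hc
  have hc' := List.all_eq_true.1 hc v hv
  have hcom : com (v ++ t1Words[i]) [1] = true := (com_iff hvt okW_one.1).2 (by rw [e]; exact hg)
  simp only [hcom, Bool.not_true, Bool.false_or] at hc'
  obtain ⟨u, hu, hue⟩ := memK_spec hvt ok_lists.1 u_keys.1 hc'
  exact ⟨u, hu, hue.trans e⟩

theorem mem_fixPts {c : Nat} (hc : c < 122760) : c ∈ fixPts ↔ img (el [1]) c = c := by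
  rw [img_el (lt_of_okW okW_one.1) hc]
  constructor
  · intro h
    have h' := List.all_eq_true.1 fix_fixed c h
    rw [Bool.and_eq_true, Nat.beq_eq] at h'
    simpa [Data.fwd] using h'.2
  · intro h
    have h' := fix_ok c hc
    simpa [checkFix, memN_iff, show tab.T c 1 = c by simpa [Data.fwd] using h] using h'

/-- The image of `0` under an element of the centraliser. -/
theorem img_zero_good {g : Spor.ON} (hg : g * el [1] = el [1] * g) : img g 0 ∈ goodPts := by
  classical
  have h10 : img (el [1]) 0 = 0 := by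
    rw [img_el (lt_of_okW okW_one.1) (by norm_num)]; decide +kernel
  have hpres : ∀ c, img (el [1]) c = c → img (el [1]) (img g c) = img g c := by
    intro c hc
    rw [← img_mul, hg, img_mul, hc]
  have hp : img g 0 < 122760 := img_lt g (by norm_num)
  have hpf := (mem_fixPts hp).2 (hpres 0 h10)
  have h := List.all_eq_true.1 good_ok _ hpf
  simp only [checkGood, Bool.or_eq_true, memN_iff, List.any_eq_true] at h
  refine h.resolve_right ?_
  rintro ⟨e, he, hep⟩
  have hb := List.all_eq_true.1 bad_ok e he
  simp only [checkBad, Bool.and_eq_true, Nat.beq_eq, Bool.not_eq_true'] at hb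
  obtain ⟨⟨hok, hz⟩, hne⟩ := hb
  rw [Nat.eq_of_beq_eq_true hep] at hz
  have hx0 : img (g * el e.2) 0 = 0 := by rw [img_mul, img_el (lt_of_okW hok) hp, hz]
  have hlt : ∀ q ∈ fixPts, q < 122760 := fun q hq => by
    have := List.all_eq_true.1 fix_fixed q hq
    rw [Bool.and_eq_true] at this
    exact Nat.ble_eq.mp this.1
  have hnd : (fixPts.map (img g)).Nodup := fix_nodup.map (img_injective g)
  have hperm : (fixPts.map (img g)).Perm fixPts := by
    refine (List.subperm_of_subset hnd ?_).perm_of_length_le (by simp)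
    intro q hq
    obtain ⟨r, hr, rfl⟩ := List.mem_map.1 hq
    exact (mem_fixPts (img_lt g (hlt r hr))).2 (hpres r ((mem_fixPts (hlt r hr)).1 hr))
  have hcnt : cntOrb e.2 = cntOrb [] := by
    unfold cntOrb
    rw [← hperm.countP_eq, List.countP_map]
    refine List.countP_congr fun q hq => ?_
    have e1 : tab.fwd e.2 (img g q) = img (g * el e.2) q := by
      rw [img_mul, img_el (lt_of_okW hok) (img_lt g (hlt q hq))]
    simp only [Function.comp_apply, e1, inOrb_img hx0 (hlt q hq)]
    rfl
  rw [hcnt] at hne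
  simp at hne

/-- The centraliser of `a`, searched. -/
theorem cent_search (ys : List (List Nat)) (test : List Nat → Bool)
    (hys : ∀ y ∈ ys, okW y = true ∧ tab.fwd y 0 = 0)
    (h : ∀ t ∈ tWords, centTest ys test t = true) {g : Spor.ON}
    (hg : g * el [1] = el [1] * g) (hgy : ∀ y ∈ ys, g * el y = el y * g) :
    ∃ w, okW w = true ∧ el w = g ∧ test w = true := by
  obtain ⟨hU, hT, -⟩ := ok_lists
  have h0 := img_zero_good hg
  rw [← t_spec.1, List.mem_map] at h0
  obtain ⟨t, ht, htp⟩ := h0
  have htw := words hT ht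
  have htc : el t * el [1] = el [1] * el t :=
    (com_iff htw okW_one.1).1 (List.all_eq_true.1 t_spec.2 t ht)
  have ht0 : img (el t) 0 = img g 0 := (img_el (lt_of_okW htw) (by norm_num)).trans htp
  obtain ⟨u, hu, hue⟩ := mem_uWords (g := g * (el t)⁻¹)
    (by rw [img_mul, ← ht0, ← img_mul, mul_inv_cancel, img_one])
    (by
      have h2 : (el t)⁻¹ * el [1] = el [1] * (el t)⁻¹ := (Commute.inv_left htc).eq
      rw [mul_assoc, h2, ← mul_assoc, hg, mul_assoc])
  have e : el (u ++ t) = g := by rw [el_append, hue, inv_mul_cancel_right]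
  have hh := h t ht
  simp only [centTest, Bool.or_eq_true, List.any_eq_true] at hh
  refine ⟨u ++ t, okW_append (words hU hu) htw, e, ?_⟩
  rcases hh with ⟨y, hy, hy'⟩ | hh
  · exfalso
    obtain ⟨hyok, hy0⟩ := hys y hy
    have hp : img g 0 < 122760 := img_lt g (by norm_num)
    have : img (g * el y) 0 = img (el y * g) 0 := by rw [hgy y hy]
    rw [img_mul, img_mul, img_el (lt_of_okW hyok) hp,
      img_el (lt_of_okW hyok) (show 0 < 122760 by norm_num), hy0] at this
    rw [htp, this] at hy'
    simp at hy'
  · exact List.all_eq_true.1 hh u hu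

end Cfsg.Agent.ONOut
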