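import Cfsg.Agent.ONOut.Cent
import Cfsg.Agent.ONOut.AFAll

/-!
One class of involutions, and the involutions of the centralisers of `a` and of `a`, `f`.
-/

set_option autoImplicit false

namespace Cfsg.Agent.ONOut

open Cfsg.Agent.CosetCert

theorem okW_nil : okW ([] : List Nat) = true := by decide +kernel

theorem okW_repInv (r : Nat) : okW (repInv r) = true := by
  unfold repInv; split_ifs <;> decide +kernel

theorem fix_zero : ∀ y ∈ [[6]], okW y = true ∧ tab.fwd y 0 = 0 := by
  intro y hy
  rw [List.mem_singleton] at hy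
  subst hy
  constructor <;> decide +kernel

theorem mem_cafWords {g : Spor.ON} (ha : g * el [1] = el [1] * g) (hf : g * el [6] = el [6] * g) :
    ∃ w ∈ cafWords, el w = g := by
  obtain ⟨w, hw, hwe, ht⟩ := cent_search [[6]] testAF fix_zero (fun t ht => by
    obtain ⟨i, hi, rfl⟩ := List.getElem_of_mem ht
    have h := af_ok i (lengths.1 ▸ hi)
    simpa only [List.getD_eq_getElem _ _ hi] using h) ha
    (fun y hy => by rw [List.mem_singleton] at hy; subst hy; exact hf)
  have hc : com w [6] = true := (com_iff hw okW_one.2).2 (by rw [hwe]; exact hf)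
  simp only [testAF, hc, Bool.not_true, Bool.false_or] at ht
  obtain ⟨v, hv, hve⟩ := memK_spec hw ok_lists.2.2.2.2.1 u_keys.2.1 ht
  exact ⟨v, hv, hve.trans hwe⟩

theorem three_free {g : Spor.ON} (ha : g * el [1] = el [1] * g) (hf : g * el [6] = el [6] * g)
    (h3 : g * g * g = 1) : g = 1 := by
  obtain ⟨w, hw, hwe⟩ := mem_cafWords ha hf
  have hok := words ok_lists.2.2.2.2.1 hw
  have h := List.all_eq_true.1 three_ok w hw
  have h1 : eqW (w ++ w ++ w) [] = true :=
    (eq_iff (okW_append (okW_append hok hok) hok) okW_nil).2 (by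
      rw [el_append, el_append, hwe, el_nil]; exact h3)
  simp only [testThree, h1, Bool.not_true, Bool.false_or] at h
  rw [← hwe, (eq_iff hok okW_nil).1 h, el_nil]

/-- The elements of the Sylow subgroup. -/
noncomputable def sEl (i : Nat) : Spor.ON := el (sWords.getD i [])

theorem sEl_ok (i : Fin 512) : okW (sWords.getD i []) = true ∧ sWords.getD i [] ∈ sWords := by
  have hi : (i : Nat) < sWords.length := by rw [lengths.2.2]; exact i.2
  rw [List.getD_eq_getElem _ _ hi]
  exact ⟨words ok_lists.2.2.2.2.2.2.1 (List.getElem_mem hi), List.getElem_mem hi⟩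

/-- The Sylow subgroup. -/
def sylS : Subgroup Spor.ON := Subgroup.closure {g | ∃ s ∈ sGens, el s = g}

theorem mem_sylS {g : Spor.ON} (hg : g ∈ sylS) : ∃ s ∈ sWords, el s = g := by
  classical
  have h : g ∈ Submonoid.closure {g : Spor.ON | ∃ s ∈ sGens, el s = g} := by
    rw [← Subgroup.closure_toSubmonoid_of_finite]; exact hg
  clear hg
  induction h using Submonoid.closure_induction_right with
  | one =>
    refine ⟨sWords.getD (0 : Fin 512) [], (sEl_ok 0).2, ?_⟩
    rw [show sWords.getD (0 : Fin 512) [] = [] by decide +kernel, el_nil]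
  | mul_right p _ q hq ih =>
    obtain ⟨t, ht, rfl⟩ := hq
    obtain ⟨s, hs, hse⟩ := ih
    have h := List.all_eq_true.1 s_ok s hs
    rw [checkS, Bool.and_eq_true] at h
    have hst := okW_append (words ok_lists.2.2.2.2.2.2.1 hs) (words ok_lists.2.2.2.2.2.2.2.1 ht)
    obtain ⟨v, hv, hve⟩ :=
      memK_spec hst ok_lists.2.2.2.2.2.2.1 u_keys.2.2.2 (List.all_eq_true.1 h.2 t ht)
    exact ⟨v, hv, by rw [hve, el_append, hse]⟩

theorem sEl_mem : ∀ i, i < 512 → sEl i ∈ sylS := by
  intro i
  induction i using Nat.strong_induction_on with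
  | _ i ih =>
    intro hi
    have h := (allFrom_iff _ _ _).1 par_ok i (Nat.zero_le _) (by omega)
    simp only [checkPar, Bool.or_eq_true, Bool.and_eq_true] at h
    rcases h with h | ⟨⟨hp, hg⟩, he⟩
    · have : i = 0 := Nat.eq_of_beq_eq_true h
      subst this
      rw [sEl, show sWords.getD 0 [] = [] by decide +kernel, el_nil]
      exact one_mem _
    · have hp' : (sPar.getD i (0, 0)).1 < i := Nat.ble_eq.mp hp
      have hg' : (sPar.getD i (0, 0)).2 < sGens.length := Nat.ble_eq.mp hg
      rw [List.getD_eq_getElem _ _ hg'] at he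
      have h1 := (sEl_ok ⟨(sPar.getD i (0, 0)).1, by omega⟩).1
      have h2 := words ok_lists.2.2.2.2.2.2.2.1 (List.getElem_mem hg')
      rw [sEl, (eq_iff (sEl_ok ⟨i, hi⟩).1 (okW_append h1 h2)).1 he, el_append]
      exact mul_mem (ih _ hp' (by omega)) (Subgroup.subset_closure ⟨_, List.getElem_mem hg', rfl⟩)

theorem sylS_le {g : Spor.ON} (hg : g ∈ sylS) : g * el [1] = el [1] * g := by
  obtain ⟨s, hs, rfl⟩ := mem_sylS hg
  have h := List.all_eq_true.1 s_ok s hs
  rw [checkS, Bool.and_eq_true] at h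
  exact (com_iff (words ok_lists.2.2.2.2.2.2.1 hs) okW_one.1).1 h.1

theorem card_sylS : Nat.card sylS = 512 := by
  classical
  let f : Fin 512 → sylS := fun i => ⟨sEl i, sEl_mem i i.2⟩
  have hf : Function.Injective f := by
    intro i j hij
    have he : sEl i = sEl j := congrArg Subtype.val hij
    have hk : kW (sWords.getD i []) = kW (sWords.getD j []) := by
      rw [keyE_el (sEl_ok i).1, keyE_el (sEl_ok j).1]; exact congrArg keyE he
    have hi : (i : Nat) < sWords.length := by rw [lengths.2.2]; exact i.2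
    have hj : (j : Nat) < sWords.length := by rw [lengths.2.2]; exact j.2
    rw [List.getD_eq_getElem _ _ hi, List.getD_eq_getElem _ _ hj] at hk
    apply Fin.ext
    refine (List.Nodup.getElem_inj_iff (u_keys.2.2.2 ▸ s_nodup) (hi := by simpa using hi)
      (hj := by simpa using hj)).1 ?_
    simpa using hk
  refine le_antisymm ?_ ((Nat.card_fin 512).symm.le.trans (Nat.card_le_card_of_injective f hf))
  refine le_trans (Nat.card_le_card_of_surjective f ?_) (Nat.card_fin 512).le
  rintro ⟨g, hg⟩
  obtain ⟨s, hs, rfl⟩ := mem_sylS hg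
  obtain ⟨i, hi, rfl⟩ := List.getElem_of_mem hs
  exact ⟨⟨i, lengths.2.2 ▸ hi⟩, Subtype.ext (by
    show el (sWords.getD i []) = el sWords[i]
    rw [List.getD_eq_getElem _ _ hi])⟩

theorem conj_into {K : Subgroup Spor.ON} (hK : sylS ≤ K) {y : Spor.ON} (hy : y ∈ K)
    (hy2 : y * y = 1) : ∃ m ∈ K, m⁻¹ * y * m ∈ sylS := by
  classical
  have : Fact (Nat.Prime 2) := ⟨Nat.prime_two⟩
  have hv : (Nat.card K).factorization 2 = 9 := by
    refine le_antisymm ?_ ?_
    · have h := (Nat.factorization_le_iff_dvd Nat.card_pos.ne' Nat.card_pos.ne').2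
        (Subgroup.card_subgroup_dvd_card K) 2
      have hG : (Nat.card Spor.ON).factorization 2 = 9 := by
        rw [show Nat.card Spor.ON = 2 ^ 9 * 900030285 from
          ONOrder.order_and_simple.2.trans (by norm_num),
          Nat.factorization_mul (by norm_num) (by norm_num), Finsupp.add_apply,
          Nat.prime_two.factorization_pow, Finsupp.single_eq_same,
          Nat.factorization_eq_zero_of_not_dvd (by norm_num)]
      exact h.trans hG.le
    · have hd : (2 : Nat) ^ 9 ∣ Nat.card K := by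
        have := Subgroup.card_dvd_of_le hK
        rw [card_sylS] at this
        exact this
      exact (Nat.prime_two.pow_dvd_iff_le_factorization Nat.card_pos.ne').1 hd
  let P : Sylow 2 K := Sylow.ofCard (sylS.subgroupOf K) (by
    rw [Nat.card_congr (Subgroup.subgroupOfEquivOfLe hK).toEquiv, card_sylS, hv]; norm_num)
  have hyp : IsPGroup 2 (Subgroup.zpowers (⟨y, hy⟩ : K)) := by
    have : (⟨y, hy⟩ : K) ^ 2 ^ 1 = 1 := by
      apply Subtype.ext
      rw [pow_one, Subgroup.coe_pow, sq]
      exact hy2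
    obtain ⟨k, -, hk⟩ := (Nat.dvd_prime_pow Nat.prime_two).1 (orderOf_dvd_of_pow_eq_one this)
    exact IsPGroup.of_card (n := k) (by rw [Nat.card_zpowers, hk])
  obtain ⟨Q, hQ⟩ := hyp.exists_le_sylow
  obtain ⟨m, hm⟩ := MulAction.exists_smul_eq K P Q
  refine ⟨m, m.2, ?_⟩
  have hyQ : (⟨y, hy⟩ : K) ∈ (Q : Subgroup K) := hQ (Subgroup.mem_zpowers _)
  rw [← hm, Sylow.coe_subgroup_smul, Subgroup.mem_pointwise_smul_iff_inv_smul_mem] at hyQ
  rw [MulAut.smul_def, ← map_inv, MulAut.conj_apply, inv_inv] at hyQ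
  exact hyQ

theorem sInv_spec {y : Spor.ON} (hy : y ∈ sylS) (hy2 : y * y = 1) (hne : y ≠ 1) :
    ∃ k r, k * el [1] = el [1] * k ∧ k⁻¹ * y * k = el (repInv r) := by
  obtain ⟨s, hs, rfl⟩ := mem_sylS hy
  have hok := words ok_lists.2.2.2.2.2.2.1 hs
  have h := List.all_eq_true.1 sinv_ok s hs
  have h1 : eqW (s ++ s) [] = true :=
    (eq_iff (okW_append hok hok) okW_nil).2 (by rw [el_append, el_nil]; exact hy2)
  have h2 : eqW s [] = false := eq_false_of_ne_true fun h =>
    hne (by rw [(eq_iff hok okW_nil).1 h, el_nil])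
  simp only [checkSInv, h1, h2, Bool.not_true, Bool.false_or, List.any_eq_true,
    Bool.and_eq_true] at h
  obtain ⟨e, hem, h3, hk, hc, h4⟩ := h
  have he1 : okW e.1 = true := by
    have : (sInv.all fun e => okW e.1) = true := by decide +kernel
    exact List.all_eq_true.1 this e hem
  refine ⟨el e.2.1, e.2.2, (com_iff hk okW_one.1).1 hc, ?_⟩
  have h5 := (eq_iff (okW_append he1 hk) (okW_append hk (okW_repInv _))).1 h4
  rw [el_append, el_append] at h5
  rw [(eq_iff hok he1).1 h3, mul_assoc, h5, inv_mul_cancel_left]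

/-- All involutions are conjugate to `a`. -/
theorem involution_conj {y : Spor.ON} (hy2 : y * y = 1) (hne : y ≠ 1) :
    ∃ m, m⁻¹ * y * m = el [1] := by
  obtain ⟨m, -, hm⟩ := conj_into le_top (Subgroup.mem_top y) hy2
  obtain ⟨k, r, -, hk⟩ := sInv_spec hm
    (by
      calc m⁻¹ * y * m * (m⁻¹ * y * m) = m⁻¹ * (y * y) * m := by group
        _ = 1 := by rw [hy2]; group)
    (fun h => hne (by
      calc y = m * (m⁻¹ * y * m) * m⁻¹ := by group
        _ = 1 := by rw [h]; group))
  have hrep : ∃ h, h⁻¹ * el (repInv r) * h = el [1] := by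
    unfold repInv
    split_ifs
    · exact ⟨1, by group⟩
    · refine ⟨el hfWord, ?_⟩
      have e : el ([6] ++ hfWord) = el (hfWord ++ [1]) :=
        el_eq (by decide +kernel) (by decide +kernel) (by decide +kernel)
      rw [el_append, el_append] at e
      rw [mul_assoc, e, inv_mul_cancel_left]
    · refine ⟨el hcWord, ?_⟩
      have e : el ([3] ++ hcWord) = el (hcWord ++ [1]) :=
        el_eq (by decide +kernel) (by decide +kernel) (by decide +kernel)
      rw [el_append, el_append] at e
      rw [mul_assoc, e, inv_mul_cancel_left]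
  obtain ⟨h, hh⟩ := hrep
  refine ⟨m * k * h, ?_⟩
  rw [← hh, ← hk]
  group

/-- An involution commuting with `a` is conjugate there to `a`, `f` or `c`. -/
theorem cent_involution {y : Spor.ON} (hya : y * el [1] = el [1] * y) (hy2 : y * y = 1)
    (hne : y ≠ 1) : ∃ m r, m * el [1] = el [1] * m ∧ m⁻¹ * y * m = el (repInv r) := by
  have hle : sylS ≤ Subgroup.centralizer {el [1]} := fun g hg => by
    rw [Subgroup.mem_centralizer_iff]
    rintro _ rfl
    exact (sylS_le hg).symm
  have hyc : y ∈ Subgroup.centralizer {el [1]} := by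
    rw [Subgroup.mem_centralizer_iff]; rintro _ rfl; exact hya.symm
  obtain ⟨m, hm, hms⟩ := conj_into hle hyc hy2
  have hma : m * el [1] = el [1] * m := (Subgroup.mem_centralizer_iff.1 hm _ rfl).symm
  obtain ⟨k, r, hka, hk⟩ := sInv_spec hms
    (by
      calc m⁻¹ * y * m * (m⁻¹ * y * m) = m⁻¹ * (y * y) * m := by group
        _ = 1 := by rw [hy2]; group)
    (fun h => hne (by
      calc y = m * (m⁻¹ * y * m) * m⁻¹ := by group
        _ = 1 := by rw [h]; group))
  refine ⟨m * k, r, (Commute.mul_left hma hka).eq, ?_⟩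
  rw [← hk]; group

end Cfsg.Agent.ONOut
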