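import Cfsg.Agent.ONOut.Act
import Cfsg.Agent.ONOut.Words

/-! The predicates checked on the words. -/

set_option autoImplicit false

namespace Cfsg.Agent.ONOut

open Cfsg.Agent.CosetCert

/-- Membership in a list of numbers. -/
noncomputable def memN (x : Nat) (l : List Nat) : Bool := l.any fun y => Nat.beq x y

/-- The key of a word. -/
noncomputable def kW (w : List Nat) : Nat :=
  Nat.add (tab.fwd w 0) (Nat.mul 1048576 (Nat.add (tab.fwd w 1) (Nat.mul 1048576 (tab.fwd w 107384))))

/-- The word is a member of a list of keys. -/
noncomputable def memK (w : List Nat) (l : List Nat) : Bool := force (kW w) fun k => memN k l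

/-- Two words commute. -/
noncomputable def com (u v : List Nat) : Bool := eqW (u ++ v) (v ++ u)

/-- The inverse word. -/
def invWord (w : List Nat) : List Nat :=
  w.reverse.map fun x => if x = 0 then 7 else if x = 7 then 0 else x

/-- All letters are valid. -/
noncomputable def okW (w : List Nat) : Bool := w.all fun x => Nat.blt x 8

/-- A fixed point of `a` is listed. -/
noncomputable def checkFix (c : Nat) : Bool := !(Nat.beq (tab.T c 1) c) || memN c fixPts

/-- The number of listed fixed points taken by a word into the suborbit. -/
noncomputable def cntOrb (w : List Nat) : Nat := fixPts.countP fun q => inOrb (tab.fwd w q)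

/-- A word brings a point to `0` and changes the count. -/
noncomputable def checkBad (e : Nat × List Nat) : Bool :=
  okW e.2 && Nat.beq (tab.fwd e.2 e.1) 0 && !(Nat.beq (cntOrb e.2) (cntOrb []))

/-- A fixed point is good or excluded. -/
noncomputable def checkGood (p : Nat) : Bool := memN p goodPts || badWords.any fun e => Nat.beq e.1 p

/-- A point of the first suborbit fixed by `a` is listed. -/
noncomputable def checkP1 (c : Nat) : Bool :=
  !(Nat.beq (tab.T c 1) c) || !(ONIndex122760.orbSet0.testBit c) || memN c p1Pts

/-- Commuting products along the two stabilisers are listed. -/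
noncomputable def checkU (t : List Nat) : Bool :=
  hWords.all fun h => !(com (h ++ t) [1]) || memK (h ++ t) uKeys

/-- A test on all words of the centraliser of `a` whose image of `0` is fixed by some words. -/
noncomputable def centTest (ys : List (List Nat)) (test : List Nat → Bool) (t : List Nat) : Bool :=
  (ys.any fun y => !(Nat.beq (tab.fwd y (tab.fwd t 0)) (tab.fwd t 0))) ||
    uWords.all fun u => test (u ++ t)

/-- The centraliser of `a` and `f`. -/
noncomputable def testAF (w : List Nat) : Bool := !(com w [6]) || memK w cafKeys

/-- No element of order three commutes with `a` and `f`. -/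
noncomputable def testThree (w : List Nat) : Bool := !(eqW (w ++ w ++ w) []) || eqW w []

/-- The candidates for `e`. -/
noncomputable def testE (w : List Nat) : Bool :=
  !(eqW (w ++ w) []) || (!(eqW (w ++ [6] ++ w ++ [6] ++ w ++ [6]) []) ||
    (eqW w [] || (eqW w [6] || memK w eKeys)))

/-- The relators showing `g`. -/
def gRels : List (List Nat) :=
  [[2, 3, 4, 0, 2, 3, 4, 0, 2, 3, 4, 0, 2, 3, 4, 0, 2, 3, 4, 0],
   [0, 2, 3, 0, 3, 2, 0, 2, 3, 0, 3], [0, 5, 4, 0, 4, 5, 0, 5, 4, 0, 4]]

/-- Replace the letter `0`. -/
def subst0 (g : List Nat) (x : Nat) : List Nat := if x = 0 then g else [x]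

/-- Only the identity completes `g`. -/
noncomputable def testG (w : List Nat) : Bool :=
  !(hgWords.all fun u => com w u) || eqW w [] ||
    !(gRels.all fun r => eqW (r.flatMap (subst0 ([0] ++ w))) [])

/-- A step of the closure of the Sylow subgroup. -/
noncomputable def checkS (s : List Nat) : Bool :=
  com s [1] && sGens.all fun g => memK (s ++ g) sKeys

/-- A word is reached from its parent. -/
noncomputable def checkPar (i : Nat) : Bool :=
  Nat.beq i 0 || (Nat.blt (sPar.getD i (0, 0)).1 i && Nat.blt (sPar.getD i (0, 0)).2 sGens.length &&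
    eqW (sWords.getD i []) (sWords.getD (sPar.getD i (0, 0)).1 [] ++
      sGens.getD (sPar.getD i (0, 0)).2 []))

/-- The three representatives. -/
def repInv (r : Nat) : List Nat := if r = 0 then [1] else if r = 1 then [6] else [3]

/-- An involution of the Sylow subgroup is conjugated. -/
noncomputable def checkSInv (s : List Nat) : Bool :=
  !(eqW (s ++ s) []) || (eqW s [] || sInv.any fun e =>
    eqW s e.1 && (okW e.2.1 && (com e.2.1 [1] && eqW (e.1 ++ e.2.1) (e.2.1 ++ repInv e.2.2))))

/-- An involution commuting with `a` and `f` is conjugated. -/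
noncomputable def checkCInv (w : List Nat) : Bool :=
  !(eqW (w ++ w) []) || (eqW w [] || cInv.any fun e =>
    eqW w e.1 && (okW e.2.1 && (Nat.blt e.2.2 cReps.length && (com e.2.1 [1] && (com e.2.1 [6] &&
      eqW (e.1 ++ e.2.1) (e.2.1 ++ cReps.getD e.2.2 []))))))

/-- A second involution with the right product is conjugated to a target. -/
noncomputable def checkPair (i : Nat) (w : List Nat) : Bool :=
  force (i) fun i =>
  !(eqW (cReps.getD i [] ++ w ++ cReps.getD i [] ++ w ++ cReps.getD i [] ++ w ++ cReps.getD i [] ++ w)
      [1, 6]) ||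
    (!(eqW (w ++ w) []) || cdPairs.any fun e => Nat.beq e.1 i && (eqW w e.2.1 && (okW e.2.2.1 &&
      (Nat.blt e.2.2.2 cdTargets.length && (com e.2.2.1 [1] && (com e.2.2.1 [6] &&
        (eqW (cReps.getD i [] ++ e.2.2.1) (e.2.2.1 ++ (cdTargets.getD e.2.2.2 ([], [])).1) &&
          eqW (e.2.1 ++ e.2.2.1) (e.2.2.1 ++ (cdTargets.getD e.2.2.2 ([], [])).2))))))))

/-- `e` commutes with the first and braids with the second. -/
noncomputable def eFits (c d e : List Nat) : Bool :=
  com e c && (eqW (d ++ e ++ d ++ e ++ d ++ e) [] && !(eqW e d))

end Cfsg.Agent.ONOut
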