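import Cfsg.Agent.ONOut.Defs

/-! Generated: kernel checks. -/

set_option Elab.async false
set_option maxRecDepth 100000

namespace Cfsg.Agent.ONOut

open Cfsg.Agent.CosetCert

theorem esearch_84 : allFrom (fun i => centTest [] testE (tWords.getD i [])) 84 6 = true := by decide +kernel

theorem esearch_90 : allFrom (fun i => centTest [] testE (tWords.getD i [])) 90 6 = true := by decide +kernel

theorem esearch_96 : allFrom (fun i => centTest [] testE (tWords.getD i [])) 96 6 = true := by decide +kernel

theorem esearch_102 : allFrom (fun i => centTest [] testE (tWords.getD i [])) 102 6 = true := by decide +kernel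

theorem esearch_108 : allFrom (fun i => centTest [] testE (tWords.getD i [])) 108 6 = true := by decide +kernel

theorem esearch_114 : allFrom (fun i => centTest [] testE (tWords.getD i [])) 114 6 = true := by decide +kernel

theorem esearch_120 : allFrom (fun i => centTest [] testE (tWords.getD i [])) 120 6 = true := by decide +kernel

end Cfsg.Agent.ONOut
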