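import Cfsg.Agent.ONOut.Defs

/-! Generated: kernel checks. -/

set_option Elab.async false
set_option maxRecDepth 100000

namespace Cfsg.Agent.ONOut

open Cfsg.Agent.CosetCert

theorem esearch_126 : allFrom (fun i => centTest [] testE (tWords.getD i [])) 126 6 = true := by decide +kernel

theorem esearch_132 : allFrom (fun i => centTest [] testE (tWords.getD i [])) 132 6 = true := by decide +kernel

theorem esearch_138 : allFrom (fun i => centTest [] testE (tWords.getD i [])) 138 6 = true := by decide +kernel

theorem esearch_144 : allFrom (fun i => centTest [] testE (tWords.getD i [])) 144 6 = true := by decide +kernel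

theorem esearch_150 : allFrom (fun i => centTest [] testE (tWords.getD i [])) 150 6 = true := by decide +kernel

theorem esearch_156 : allFrom (fun i => centTest [] testE (tWords.getD i [])) 156 6 = true := by decide +kernel

theorem esearch_162 : allFrom (fun i => centTest [] testE (tWords.getD i [])) 162 6 = true := by decide +kernel

end Cfsg.Agent.ONOut
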