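import Cfsg.Agent.ONOut.Defs

/-! Generated: kernel checks. -/

set_option Elab.async false
set_option maxRecDepth 100000

namespace Cfsg.Agent.ONOut

open Cfsg.Agent.CosetCert

theorem esearch_168 : allFrom (fun i => centTest [] testE (tWords.getD i [])) 168 6 = true := by decide +kernel

theorem esearch_174 : allFrom (fun i => centTest [] testE (tWords.getD i [])) 174 6 = true := by decide +kernel

theorem esearch_180 : allFrom (fun i => centTest [] testE (tWords.getD i [])) 180 6 = true := by decide +kernel

theorem esearch_186 : allFrom (fun i => centTest [] testE (tWords.getD i [])) 186 6 = true := by decide +kernel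

theorem esearch_192 : allFrom (fun i => centTest [] testE (tWords.getD i [])) 192 6 = true := by decide +kernel

theorem esearch_198 : allFrom (fun i => centTest [] testE (tWords.getD i [])) 198 6 = true := by decide +kernel

theorem esearch_204 : allFrom (fun i => centTest [] testE (tWords.getD i [])) 204 6 = true := by decide +kernel

end Cfsg.Agent.ONOut
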