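import Cfsg.Agent.ONOut.ESearch0
import Cfsg.Agent.ONOut.ESearch1
import Cfsg.Agent.ONOut.ESearch2
import Cfsg.Agent.ONOut.ESearch3
import Cfsg.Agent.ONOut.ESearch4
import Cfsg.Agent.ONOut.ESearch5

/-! Generated: joining the checks. -/

namespace Cfsg.Agent.ONOut

open Cfsg.Agent.CosetCert

theorem esearch_ok : ∀ c, c < 240 → (fun i => centTest [] testE (tWords.getD i [])) c = true :=
  (forall_lt_step (b := 240) (forall_lt_step (b := 234) (forall_lt_step (b := 228) (forall_lt_step (b := 222) (forall_lt_step (b := 216) (forall_lt_step (b := 210) (forall_lt_step (b := 204) (forall_lt_step (b := 198) (forall_lt_step (b := 192) (forall_lt_step (b := 186) (forall_lt_step (b := 180) (forall_lt_step (b := 174) (forall_lt_step (b := 168) (forall_lt_step (b := 162) (forall_lt_step (b := 156) (forall_lt_step (b := 150) (forall_lt_step (b := 144) (forall_lt_step (b := 138) (forall_lt_step (b := 132) (forall_lt_step (b := 126) (forall_lt_step (b := 120) (forall_lt_step (b := 114) (forall_lt_step (b := 108) (forall_lt_step (b := 102) (forall_lt_step (b :=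 96) (forall_lt_step (b := 90) (forall_lt_step (b := 84) (forall_lt_step (b := 78) (forall_lt_step (b := 72) (forall_lt_step (b := 66) (forall_lt_step (b := 60) (forall_lt_step (b := 54) (forall_lt_step (b := 48) (forall_lt_step (b := 42) (forall_lt_step (b := 36) (forall_lt_step (b := 30) (forall_lt_step (b := 24) (forall_lt_step (b := 18) (forall_lt_step (b := 12) (forall_lt_step (b := 6) forall_lt_zero esearch_0 rfl) esearch_6 rfl) esearch_12 rfl) esearch_18 rfl) esearch_24 rfl) esearch_30 rfl) esearch_36 rfl) esearch_42 rfl) esearch_48 rfl) esearch_54 rfl) esearch_60 rfl) esearch_66 rfl) esearch_72 rfl) esearch_78 rfl) esearch_84 rfl) esearch_90 rfl) esearch_96 rfl) esearch_102 rfl) esearch_108 rfl) esearch_114 rfl) esearch_120 rfl) esearch_126 rfl) esearch_132 rfl) esearch_138 rfl) esearch_144 rfl) esearch_150 rfl) esearch_156 rfl) esearch_162 rfl) esearch_168 rfl) esearch_174 rfl) esearch_180 rfl) esearch_186 rfl) esearch_192 rfl) esearch_198 rfl) esearch_204 rfl) esearch_210 rfl) esearch_216 rfl) esearch_222 rfl) esearch_228 rfl) esearch_234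 rfl)

end Cfsg.Agent.ONOut
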