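import Cfsg.Agent.ONOut.Defs

/-! Kernel checks on the lists. -/

set_option Elab.async false
set_option maxRecDepth 100000

namespace Cfsg.Agent.ONOut

open Cfsg.Agent.CosetCert

theorem words_ok : uWords.all okW && tWords.all okW && hWords.all okW && t1Words.all okW &&
    cafWords.all okW && eWords.all okW && sWords.all okW && sGens.all okW && omWords.all okW &&
    cReps.all okW && hgWords.all okW && hwWords.all okW = true := by decide +kernel

theorem fix_nodup : fixPts.Nodup := by decide +kernel

theorem fix_fixed : (fixPts.all fun c => Nat.blt c 122760 && Nat.beq (tab.T c 1) c) = true := by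
  decide +kernel

theorem bad_ok : badWords.all checkBad = true := by decide +kernel

theorem good_ok : fixPts.all checkGood = true := by decide +kernel

theorem t_spec : (tWords.map fun t => tab.fwd t 0) = goodPts ∧
    (tWords.all fun t => com t [1]) = true := by
  constructor <;> decide +kernel

theorem h_spec : (hWords.map kW).Nodup ∧ hWords.length = 64 ∧
    (hWords.all fun h => Nat.beq (tab.fwd h 0) 0 && Nat.beq (tab.fwd h 1) 1) = true := by
  refine ⟨?_, ?_, ?_⟩ <;> decide +kernel

theorem t1_spec : (t1Words.map fun t => tab.fwd t 1) = p1Pts ∧ t1Words.length = 189 ∧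
    (t1Words.all fun t => Nat.beq (tab.fwd t 0) 0) = true := by
  refine ⟨?_, ?_, ?_⟩ <;> decide +kernel

theorem lengths : tWords.length = 240 ∧ cReps.length = 7 ∧ sWords.length = 512 := by
  refine ⟨?_, ?_, ?_⟩ <;> decide +kernel

theorem u_keys : uWords.map kW = uKeys ∧ cafWords.map kW = cafKeys ∧ eWords.map kW = eKeys ∧
    sWords.map kW = sKeys := by
  refine ⟨?_, ?_, ?_, ?_⟩ <;> decide +kernel

theorem s_ok : sWords.all checkS = true := by decide +kernel

theorem s_nodup : sKeys.Nodup := by decide +kernel

theorem sinv_ok : sWords.all checkSInv = true := by decide +kernel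

theorem cinv_ok : cafWords.all checkCInv = true := by decide +kernel

theorem three_ok : cafWords.all testThree = true := by decide +kernel

theorem par_ok : allFrom checkPar 0 512 = true := by decide +kernel

theorem g_ok : (tWords.all fun t => centTest hgWords testG t) = true := by decide +kernel

theorem bad_pairs : ((cdTargets.drop 2).all fun cd =>
    eWords.all fun e => !(eFits cd.1 cd.2 e)) = true := by decide +kernel

theorem e_target : (eWords.all fun e =>
    !(eFits [3] [4] e) || (eqW e [5] || eqW e [6, 5, 6])) = true := by decide +kernel

end Cfsg.Agent.ONOut
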