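import Cfsg.Agent.ONOut.Classes

/-!
Maps on words, the automorphism reversing the path, and the outer automorphism.
-/

set_option autoImplicit false

namespace Cfsg.Agent.ONOut

open Cfsg.Agent.CosetCert

theorem map_el (ψ : Spor.ON →* Spor.ON) (f : Nat → List Nat) :
    ∀ w : List Nat, (∀ x ∈ w, ψ (el [x]) = el (f x)) → ψ (el w) = el (w.flatMap f) := by
  intro w
  induction w with
  | nil => intro _; rw [List.flatMap_nil, el_nil, map_one]
  | cons x t ih =>
    intro h
    rw [List.flatMap_cons, el_append, ← h x (List.mem_cons_self ..),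
      ← ih fun y hy => h y (List.mem_cons_of_mem _ hy), ← map_mul, ← el_append]
    rfl

theorem el_enc (b : Spor.ON.Gen) : el [ONIndex122760.enc b] = PresentedGroup.of b := by
  cases b <;> rfl

theorem el_inv {w : List Nat} (h : eqW (w ++ invWord w) [] = true) (hw : okW w = true)
    (hw' : okW (invWord w) = true) : el (invWord w) = (el w)⁻¹ := by
  have := (eq_iff (okW_append hw hw') okW_nil).1 h
  rw [el_append, el_nil] at this
  exact (inv_eq_of_mul_eq_one_right this).symm

theorem el_seven : el [7] = (el [0])⁻¹ :=
  el_inv (w := [0]) (by decide +kernel) (by decide +kernel) (by decide +kernel)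

/-- The image of a letter. -/
def omImg (x : Nat) : List Nat :=
  if x = 7 then invWord (omWords.getD 0 []) else omWords.getD x []

theorem okW_omImg : ∀ x, x < 8 → okW (omImg x) = true := by decide +kernel

theorem omImg_inv : ∀ b : Spor.ON.Gen,
    el (omImg (Data.code tab.iv ONIndex122760.enc (b, false))) =
      (el (omImg (ONIndex122760.enc b)))⁻¹ := by
  intro b
  refine eq_inv_of_mul_eq_one_left ?_
  rw [← el_append, ← el_nil]
  have h : eqW (omImg (Data.code tab.iv ONIndex122760.enc (b, false)) ++
      omImg (ONIndex122760.enc b)) [] = true := by cases b <;> decide +kernel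
  refine (eq_iff ?_ okW_nil).1 h
  cases b <;> decide +kernel

theorem lift_mk (l : List (Spor.ON.Gen × Bool)) :
    FreeGroup.lift (fun b => el (omImg (ONIndex122760.enc b))) (FreeGroup.mk l) =
      el ((l.map (Data.code tab.iv ONIndex122760.enc)).flatMap omImg) := by
  induction l with
  | nil => rw [List.map_nil, List.flatMap_nil, el_nil, ← FreeGroup.one_eq_mk, map_one]
  | cons p t ih =>
    rw [show FreeGroup.mk (p :: t) = FreeGroup.mk [p] * FreeGroup.mk t by rw [FreeGroup.mul_mk]; rfl,
      map_mul, ih, List.map_cons, List.flatMap_cons, el_append]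
    congr 1
    obtain ⟨b, s⟩ := p
    cases s
    · rw [show FreeGroup.mk [(b, false)] = (FreeGroup.of b)⁻¹ from rfl, map_inv,
        FreeGroup.lift_apply_of, omImg_inv]
    · rw [show FreeGroup.mk [(b, true)] = FreeGroup.of b from rfl, FreeGroup.lift_apply_of]
      rfl

theorem om_rels : ∀ r ∈ ONOrder.rels,
    FreeGroup.lift (fun b => el (omImg (ONIndex122760.enc b))) r = 1 := by
  intro r hr
  have hle : Subgroup.normalClosure {r | r ∈ (coxWords ONIndex122760.genList Cfsg.Spor.ON.edges
      Cfsg.Spor.ON.extra).map FreeGroup.mk} ≤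
      (FreeGroup.lift fun b => el (omImg (ONIndex122760.enc b))).ker := by
    apply Subgroup.normalClosure_le_normal
    intro r hr
    obtain ⟨l, hl, rfl⟩ := List.mem_map.1 hr
    rw [SetLike.mem_coe, MonoidHom.mem_ker, lift_mk, ← el_nil]
    have h : ((coxWords ONIndex122760.genList Cfsg.Spor.ON.edges Cfsg.Spor.ON.extra).all fun l =>
        okW ((l.map (Data.code tab.iv ONIndex122760.enc)).flatMap omImg) &&
          eqW ((l.map (Data.code tab.iv ONIndex122760.enc)).flatMap omImg) []) = true := by
      decide +kernel
    have h' := List.all_eq_true.1 h l hl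
    rw [Bool.and_eq_true] at h'
    exact (eq_iff h'.1 okW_nil).1 h'.2
  exact MonoidHom.mem_ker.1 (hle (ONIndex122760.spells.rels_mem hr))

/-- The endomorphism given by the images. -/
noncomputable def omHom : Spor.ON →* Spor.ON := PresentedGroup.toGroup om_rels

theorem omHom_el : ∀ x, x < 7 → omHom (el [x]) = el (omImg x) := by
  intro x hx
  have h : ∀ b, omHom (el [ONIndex122760.enc b]) = el (omImg (ONIndex122760.enc b)) := fun b => by
    rw [el_enc]; exact PresentedGroup.toGroup.of om_rels
  interval_cases x
  exacts [h .g, h .a, h .b, h .c, h .d, h .e, h .f]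

theorem omHom_bijective : Function.Bijective omHom := by
  have := ONOrder.order_and_simple.1
  refine Finite.injective_iff_bijective.1 ((MonoidHom.ker_eq_bot_iff _).1 ?_)
  refine (Subgroup.Normal.eq_bot_or_eq_top (MonoidHom.normal_ker omHom)).resolve_right fun h => ?_
  have h1 : omHom (el [1]) = 1 := MonoidHom.mem_ker.1 (h ▸ Subgroup.mem_top _)
  rw [omHom_el 1 (by norm_num), ← el_nil] at h1
  exact el_ne (by decide +kernel) (by decide +kernel) (by decide +kernel) h1

/-- The outer automorphism. -/
noncomputable def omega : MulAut Spor.ON := MulEquiv.ofBijective omHom omHom_bijective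

theorem omega_el {x : Nat} (hx : x < 7) : omega (el [x]) = el (omImg x) := omHom_el x hx

theorem omega_not_inner (k : Spor.ON) : MulAut.conj k ≠ omega := by
  intro h
  have hv : ∀ x, x < 7 → k * el [x] = el (omImg x) * k := by
    intro x hx
    have h1 : MulAut.conj k (el [x]) = omega (el [x]) := by rw [h]
    rwa [omega_el hx, MulAut.conj_apply, mul_inv_eq_iff_eq_mul] at h1
  have e1 : el (omImg 1) = el [1] :=
    el_eq (by decide +kernel) (by decide +kernel) (by decide +kernel)
  have e6 : el (omImg 6) = el [6] :=
    el_eq (by decide +kernel) (by decide +kernel) (by decide +kernel)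
  obtain ⟨w, hw, rfl⟩ := mem_cafWords (g := k) (by rw [hv 1 (by norm_num), e1])
    (by rw [hv 6 (by norm_num), e6])
  have hok := words ok_lists.2.2.2.2.1 hw
  have hn : (cafWords.all fun w =>
      !(eqW (w ++ [3]) (omImg 3 ++ w)) || !(eqW (w ++ [4]) (omImg 4 ++ w))) = true := by
    decide +kernel
  have h3 := List.all_eq_true.1 hn w hw
  rw [(eq_iff (okW_append hok (by decide +kernel)) (okW_append (okW_omImg 3 (by norm_num)) hok)).2
    (by rw [el_append, el_append]; exact hv 3 (by norm_num))] at h3
  rw [(eq_iff (okW_append hok (by decide +kernel)) (okW_append (okW_omImg 4 (by norm_num)) hok)).2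
    (by rw [el_append, el_append]; exact hv 4 (by norm_num))] at h3
  simp at h3

/-- The letters reversing the path. -/
def revL : Nat → Nat
  | 1 => 6
  | 2 => 5
  | 3 => 4
  | 4 => 3
  | 5 => 2
  | 6 => 1
  | x => x

/-- Conjugation reversing the path. -/
noncomputable def sigma : MulAut Spor.ON := MulAut.conj (el swWord)⁻¹

theorem sigma_el {x : Nat} (hx : x < 7) : sigma (el [x]) = el [revL x] := by
  have h : ∀ x, x < 7 → eqW ([x] ++ swWord) (swWord ++ [revL x]) = true := by decide +kernel
  have hs : okW swWord = true := by decide +kernel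
  have h1 : ∀ x, x < 7 → okW [x] = true ∧ okW [revL x] = true := by decide +kernel
  have e := (eq_iff (okW_append (h1 x hx).1 hs) (okW_append hs (h1 x hx).2)).1 (h x hx)
  rw [el_append, el_append] at e
  rw [sigma, MulAut.conj_apply, inv_inv, mul_assoc, e, inv_mul_cancel_left]

end Cfsg.Agent.ONOut
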