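import Cfsg.Agent.ONOut.Defs

/-! Generated: kernel checks. -/

set_option Elab.async false
set_option maxRecDepth 100000

namespace Cfsg.Agent.ONOut

open Cfsg.Agent.CosetCert

theorem pair_6 : allFrom (fun i => cafWords.all fun w => checkPair i w) 6 1 = true := by decide +kernel

end Cfsg.Agent.ONOut
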