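import Cfsg.Agent.ONOut.Pair0
import Cfsg.Agent.ONOut.Pair1
import Cfsg.Agent.ONOut.Pair2
import Cfsg.Agent.ONOut.Pair3

/-! Generated: joining the checks. -/

namespace Cfsg.Agent.ONOut

open Cfsg.Agent.CosetCert

theorem pair_ok : ∀ c, c < 7 → (fun i => cafWords.all fun w => checkPair i w) c = true :=
  (forall_lt_step (b := 7) (forall_lt_step (b := 6) (forall_lt_step (b := 5) (forall_lt_step (b := 4) (forall_lt_step (b := 3) (forall_lt_step (b := 2) (forall_lt_step (b := 1) forall_lt_zero pair_0 rfl) pair_1 rfl) pair_2 rfl) pair_3 rfl) pair_4 rfl) pair_5 rfl) pair_6 rfl)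

end Cfsg.Agent.ONOut
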