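import Cfsg.Prelude.Def_KGroupFacts
import Cfsg.Agent.ONOut.Omega
import Cfsg.Agent.ONOut.PairAll
import Cfsg.Agent.ONOut.ESearchAll

/-!
The outer automorphism group of the presented O'Nan group has order two.
-/

set_option autoImplicit false
set_option maxHeartbeats 1000000

namespace Cfsg.Agent.ONOut

open Cfsg.Agent.CosetCert

/-- A relation carried by an automorphism. -/
theorem rel_map (ψ : MulAut Spor.ON) (u v : List Nat) (h : eqW u v = true)
    (hu : okW u = true := by decide +kernel) (hv : okW v = true := by decide +kernel) :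
    ψ (el u) = ψ (el v) := by rw [(eq_iff hu hv).1 h]

theorem commute_map (ψ : MulAut Spor.ON) (x y : Nat) (h : com [x] [y] = true)
    (hx : okW [x] = true := by decide +kernel) (hy : okW [y] = true := by decide +kernel) :
    ψ (el [x]) * ψ (el [y]) = ψ (el [y]) * ψ (el [x]) := by
  rw [← map_mul, ← map_mul, (com_iff hx hy).1 h]

theorem cube_map (ψ : MulAut Spor.ON) (x y : Nat) (h : eqW [x, y, x, y, x, y] [] = true)
    (hu : okW [x, y, x, y, x, y] = true := by decide +kernel) :
    ψ (el [x]) * ψ (el [y]) * ψ (el [x]) * ψ (el [y]) * ψ (el [x]) * ψ (el [y]) = 1 := by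
  have e : el [x, y, x, y, x, y] = el [x] * el [y] * el [x] * el [y] * el [x] * el [y] := by
    rw [← el_append, ← el_append, ← el_append, ← el_append, ← el_append]; rfl
  have e1 := (eq_iff hu okW_nil).1 h
  rw [e, el_nil] at e1
  rw [← map_mul, ← map_mul, ← map_mul, ← map_mul, ← map_mul, e1, map_one]

theorem sq_map (ψ : MulAut Spor.ON) (x : Nat) (h : eqW [x, x] [] = true)
    (hu : okW [x, x] = true := by decide +kernel) : ψ (el [x]) * ψ (el [x]) = 1 := by
  have e1 := (eq_iff hu okW_nil).1 h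
  rw [show [x, x] = [x] ++ [x] from rfl, el_append, el_nil] at e1
  rw [← map_mul, e1, map_one]

theorem ne_map (ψ : MulAut Spor.ON) (u v : List Nat) (h : eqW u v = false)
    (hu : okW u = true := by decide +kernel) (hv : okW v = true := by decide +kernel) :
    ψ (el u) ≠ ψ (el v) := fun e => by
  rw [(eq_iff hu hv).2 (ψ.injective e)] at h
  cases h

theorem conj_trans {g φ' : Spor.ON} (ψ : MulAut Spor.ON) (x : Nat) (hφ : g⁻¹ * ψ (el [x]) * g = φ') :
    (MulAut.conj g⁻¹ * ψ) (el [x]) = φ' := by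
  rw [← hφ, MulAut.mul_apply, MulAut.conj_apply, inv_inv]

/-- The `e` candidates for a pair. -/
theorem exists_eWord (ψ : MulAut Spor.ON) (ha : ψ (el [1]) = el [1]) (hf : ψ (el [6]) = el [6])
    (c' d' : List Nat) (hc' : okW c' = true) (hd' : okW d' = true)
    (hc : ψ (el [3]) = el c') (hd : ψ (el [4]) = el d') :
    ∃ v ∈ eWords, el v = ψ (el [5]) ∧ eFits c' d' v = true := by
  have hcomm : ψ (el [5]) * el [1] = el [1] * ψ (el [5]) := by
    rw [← ha]; exact commute_map ψ 5 1 (by decide +kernel)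
  obtain ⟨w, hw, hwe, ht⟩ := cent_search [] testE (by simp) (fun t ht => by
    obtain ⟨i, hi, rfl⟩ := List.getElem_of_mem ht
    have h := esearch_ok i (lengths.1 ▸ hi)
    simpa only [List.getD_eq_getElem _ _ hi] using h) hcomm (by simp)
  have h2 : eqW (w ++ w) [] = true := (eq_iff (okW_append hw hw) okW_nil).2 (by
    rw [el_append, hwe, el_nil]; exact sq_map ψ 5 (by decide +kernel))
  have h3 : eqW (w ++ [6] ++ w ++ [6] ++ w ++ [6]) [] = true :=
    (eq_iff (okW_append (okW_append (okW_append (okW_append (okW_append hw okW_one.2) hw)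
      okW_one.2) hw) okW_one.2) okW_nil).2 (by
      rw [el_append, el_append, el_append, el_append, el_append, hwe, el_nil, ← hf]
      exact cube_map ψ 5 6 (by decide +kernel))
  have h4 : eqW w [] = false := eq_false_of_ne_true fun h => by
    have := (eq_iff hw okW_nil).1 h
    rw [hwe, el_nil, ← map_one ψ, ← el_nil] at this
    exact ne_map ψ [5] [] (by decide +kernel) (by decide +kernel) (by decide +kernel) this
  have h5 : eqW w [6] = false := eq_false_of_ne_true fun h => by
    have := (eq_iff hw okW_one.2).1 h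
    rw [hwe, ← hf] at this
    exact ne_map ψ [5] [6] (by decide +kernel) (by decide +kernel) (by decide +kernel) this
  simp only [testE, h2, h3, h4, h5, Bool.not_true, Bool.false_or] at ht
  obtain ⟨v, hv, hve⟩ := memK_spec hw ok_lists.2.2.2.2.2.1 u_keys.2.2.1 ht
  have hvw := words ok_lists.2.2.2.2.2.1 hv
  refine ⟨v, hv, hve.trans hwe, ?_⟩
  simp only [eFits, Bool.and_eq_true, Bool.not_eq_true']
  refine ⟨(com_iff hvw hc').2 ?_, (eq_iff ?_ okW_nil).2 ?_, eq_false_of_ne_true fun h => ?_⟩
  · rw [hve, hwe, ← hc]; exact commute_map ψ 5 3 (by decide +kernel)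
  · exact okW_append (okW_append (okW_append (okW_append (okW_append hd' hvw) hd') hvw) hd') hvw
  · rw [el_append, el_append, el_append, el_append, el_append, hve, hwe, el_nil, ← hd]
    exact cube_map ψ 4 5 (by decide +kernel)
  · have := (eq_iff hvw hd').1 h
    rw [hve, hwe, ← hd] at this
    exact ne_map ψ [5] [4] (by decide +kernel) (by decide +kernel) (by decide +kernel) this

/-- With `a`, `c`, `d`, `f` fixed, `e` goes to `e` or to `fef`. -/
theorem e_cases (ψ : MulAut Spor.ON) (ha : ψ (el [1]) = el [1]) (hc : ψ (el [3]) = el [3])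
    (hd : ψ (el [4]) = el [4]) (hf : ψ (el [6]) = el [6]) :
    ψ (el [5]) = el [5] ∨ ψ (el [5]) = el [6, 5, 6] := by
  obtain ⟨v, hv, hve, hfit⟩ :=
    exists_eWord ψ ha hf [3] [4] (by decide +kernel) (by decide +kernel) hc hd
  have h := List.all_eq_true.1 e_target v hv
  have hvw := words ok_lists.2.2.2.2.2.1 hv
  simp only [hfit, Bool.not_true, Bool.false_or, Bool.or_eq_true] at h
  rw [← hve]
  rcases h with h | h
  · exact Or.inl ((eq_iff hvw (by decide +kernel)).1 h)
  · exact Or.inr ((eq_iff hvw (by decide +kernel)).1 h)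

/-- With `a`, `c`, `d`, `f` fixed, `b` goes to `b` or to `aba`. -/
theorem b_cases (ψ : MulAut Spor.ON) (ha : ψ (el [1]) = el [1]) (hc : ψ (el [3]) = el [3])
    (hd : ψ (el [4]) = el [4]) (hf : ψ (el [6]) = el [6]) :
    ψ (el [2]) = el [2] ∨ ψ (el [2]) = el [1, 2, 1] := by
  have hx : ∀ x, x < 7 → ψ (el [x]) = el [x] →
      (sigma * ψ * sigma⁻¹ : MulAut Spor.ON) (el [revL x]) = el [revL x] := by
    intro x hx h
    rw [MulAut.mul_apply, MulAut.mul_apply, ← sigma_el hx, MulAut.inv_apply_self, h, sigma_el hx]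
  rcases e_cases (sigma * ψ * sigma⁻¹) (hx 6 (by norm_num) hf) (hx 4 (by norm_num) hd)
    (hx 3 (by norm_num) hc) (hx 1 (by norm_num) ha) with h | h
  · left
    rw [MulAut.mul_apply, MulAut.mul_apply, show el [5] = sigma (el [2]) from
      (sigma_el (x := 2) (by norm_num)).symm, MulAut.inv_apply_self] at h
    exact sigma.injective h
  · right
    rw [show el [6, 5, 6] = sigma (el [1, 2, 1]) by
        rw [show [1, 2, 1] = [1] ++ [2] ++ [1] from rfl, el_append, el_append, map_mul, map_mul,
          sigma_el (by norm_num), sigma_el (by norm_num), ← el_append, ← el_append]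
        rfl,
      MulAut.mul_apply, MulAut.mul_apply, show el [5] = sigma (el [2]) from
      (sigma_el (x := 2) (by norm_num)).symm, MulAut.inv_apply_self] at h
    exact sigma.injective h

/-- An automorphism fixing `a, …, f` fixes `g`. -/
theorem g_fixed (ψ : MulAut Spor.ON) (h : ∀ x, 1 ≤ x → x < 7 → ψ (el [x]) = el [x]) :
    ψ (el [0]) = el [0] := by
  obtain ⟨k, hgk⟩ : ∃ k, ψ (el [0]) = el [0] * k := ⟨_, (mul_inv_cancel_left _ _).symm⟩
  obtain ⟨hhg, hhw⟩ : hgWords.all okW = true ∧ hwWords.all okW = true :=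
    ⟨ok_lists.2.2.2.2.2.2.2.2.2.2.1, ok_lists.2.2.2.2.2.2.2.2.2.2.2⟩
  have hfix : ∀ w : List Nat, (w.all fun x => Nat.ble 1 x && Nat.blt x 7) = true →
      ψ (el w) = el w := by
    intro w hw
    have := map_el ψ.toMonoidHom (fun x => [x]) w (fun x hx => by
      have := List.all_eq_true.1 hw x hx
      rw [Bool.and_eq_true] at this
      exact h x (Nat.ble_eq.mp this.1) (Nat.ble_eq.mp this.2))
    rw [show w.flatMap (fun x => [x]) = w by simp] at this
    exact this
  have hcomm : ∀ u ∈ hgWords, k * el u = el u * k := by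
    intro u hu
    obtain ⟨i, hi, rfl⟩ := List.getElem_of_mem hu
    have hl : hgWords.length = hwWords.length ∧
        ((List.range hgWords.length).all fun i =>
          ((hgWords.getD i []).all fun x => Nat.ble 1 x && Nat.blt x 7) &&
          (((hwWords.getD i []).all fun x => Nat.ble 1 x && Nat.blt x 7) &&
          eqW ([0] ++ hgWords.getD i []) (hwWords.getD i [] ++ [0]))) = true := by
      constructor <;> decide +kernel
    have hi' : i < hwWords.length := hl.1 ▸ hi
    have h' := List.all_eq_true.1 hl.2 i (List.mem_range.2 hi)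
    rw [List.getD_eq_getElem _ _ hi, List.getD_eq_getElem _ _ hi', Bool.and_eq_true,
      Bool.and_eq_true] at h'
    have e := (eq_iff (okW_append (by decide +kernel) (words hhg (List.getElem_mem hi)))
      (okW_append (words hhw (List.getElem_mem hi')) (by decide +kernel))).1 h'.2.2
    rw [el_append, el_append] at e
    have e' := congrArg ψ e
    rw [map_mul, map_mul, hfix _ h'.1, hfix _ h'.2.1, hgk, ← mul_assoc, ← e, mul_assoc,
      mul_assoc] at e'
    exact mul_left_cancel e'
  have hone : [1] ∈ hgWords := by decide +kernel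
  obtain ⟨w, hw, hwe, ht⟩ := cent_search hgWords testG
    (fun y hy => ⟨words hhg hy, by
      have : (hgWords.all fun y => Nat.beq (tab.fwd y 0) 0) = true := by decide +kernel
      exact Nat.eq_of_beq_eq_true (List.all_eq_true.1 this y hy)⟩)
    (fun t ht => List.all_eq_true.1 g_ok t ht) (g := k) (hcomm _ hone) hcomm
  have h1 : (hgWords.all fun u => com w u) = true := List.all_eq_true.2 fun u hu =>
    (com_iff hw (words hhg hu)).2 (by rw [hwe]; exact hcomm u hu)
  have h2 : (gRels.all fun r => eqW (r.flatMap (subst0 ([0] ++ w))) []) = true := by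
    have hr : (gRels.all fun r => eqW r [] && (r.all fun x => Nat.blt x 7)) = true := by
      decide +kernel
    refine List.all_eq_true.2 fun r hr' => ?_
    have h' := List.all_eq_true.1 hr r hr'
    rw [Bool.and_eq_true] at h'
    have hr7 : ∀ x ∈ r, x < 7 := fun x hx => Nat.ble_eq.mp (List.all_eq_true.1 h'.2 x hx)
    have hok : okW r = true := List.all_eq_true.2 fun x hx =>
      Nat.ble_eq.mpr (lt_trans (hr7 x hx) (by norm_num : 7 < 8))
    have hsub : ∀ x, x < 7 → okW (subst0 ([0] ++ w) x) = true := by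
      intro x hx
      unfold subst0
      split
      · exact okW_append (by decide +kernel) hw
      · exact List.all_eq_true.2 fun y hy => by
          rw [List.mem_singleton] at hy; subst hy; exact Nat.ble_eq.mpr (by omega)
    refine (eq_iff (List.all_eq_true.2 fun y hy => ?_) okW_nil).2 ?_
    · obtain ⟨x, hx, hy⟩ := List.mem_flatMap.1 hy
      exact List.all_eq_true.1 (hsub x (hr7 x hx)) y hy
    · rw [← map_el ψ.toMonoidHom (subst0 ([0] ++ w)) r (fun x hx => by
        show ψ (el [x]) = _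
        unfold subst0
        split
        · next h0 => rw [h0, hgk, el_append, hwe]
        · next h0 => exact h x (Nat.one_le_iff_ne_zero.2 h0) (hr7 x hx))]
      show ψ (el r) = _
      rw [(eq_iff hok okW_nil).1 h'.1, el_nil, map_one]
  simp only [testG, h1, h2, Bool.not_true, Bool.false_or, Bool.or_false] at ht
  rw [hgk, ← hwe, (eq_iff hw okW_nil).1 ht, el_nil, mul_one]

theorem aut_ext {ψ χ : MulAut Spor.ON} (h : ∀ x, x < 7 → ψ (el [x]) = χ (el [x])) : ψ = χ := by
  refine MulEquiv.toMonoidHom_injective (PresentedGroup.ext fun b => ?_)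
  show ψ (PresentedGroup.of b) = χ (PresentedGroup.of b)
  rw [← el_enc]
  exact h _ (by cases b <;> decide)

/-- An automorphism fixing `a`, `c`, `d`, `f` is inner. -/
theorem inner_of_fixed (ψ : MulAut Spor.ON) (ha : ψ (el [1]) = el [1]) (hc : ψ (el [3]) = el [3])
    (hd : ψ (el [4]) = el [4]) (hf : ψ (el [6]) = el [6]) :
    ∃ k, ψ = MulAut.conj k := by
  obtain ⟨kb, hkb, eb⟩ : ∃ kb, (kb = 1 ∨ kb = el [1]) ∧ ψ (el [2]) = kb * el [2] * kb⁻¹ := by
    rcases b_cases ψ ha hc hd hf with h | h
    · exact ⟨1, Or.inl rfl, by rw [h, one_mul, inv_one, mul_one]⟩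
    · refine ⟨el [1], Or.inr rfl, ?_⟩
      rw [h, inv_eq_of_mul_eq_one_right (show el [1] * el [1] = 1 by
        rw [← el_append, ← el_nil]; exact el_eq (by decide +kernel)), ← el_append, ← el_append]
      rfl
  obtain ⟨ke, hke, ee⟩ : ∃ ke, (ke = 1 ∨ ke = el [6]) ∧ ψ (el [5]) = ke * el [5] * ke⁻¹ := by
    rcases e_cases ψ ha hc hd hf with h | h
    · exact ⟨1, Or.inl rfl, by rw [h, one_mul, inv_one, mul_one]⟩
    · refine ⟨el [6], Or.inr rfl, ?_⟩
      rw [h, inv_eq_of_mul_eq_one_right (show el [6] * el [6] = 1 by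
        rw [← el_append, ← el_nil]; exact el_eq (by decide +kernel)), ← el_append, ← el_append]
      rfl
  have fixA : ∀ x, (x = 1 ∨ x = 3 ∨ x = 4 ∨ x = 5 ∨ x = 6) → kb * el [x] = el [x] * kb := by
    intro x hx
    rcases hkb with rfl | rfl
    · rw [one_mul, mul_one]
    · rcases hx with rfl | rfl | rfl | rfl | rfl <;>
        exact (com_iff (by decide +kernel) (by decide +kernel)).1 (by decide +kernel)
  have fixF : ∀ x, (x = 1 ∨ x = 2 ∨ x = 3 ∨ x = 4 ∨ x = 6) → ke * el [x] = el [x] * ke := by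
    intro x hx
    rcases hke with rfl | rfl
    · rw [one_mul, mul_one]
    · rcases hx with rfl | rfl | rfl | rfl | rfl <;>
        exact (com_iff (by decide +kernel) (by decide +kernel)).1 (by decide +kernel)
  have hall : ∀ x, 1 ≤ x → x < 7 →
      (MulAut.conj (kb * ke)⁻¹ * ψ) (el [x]) = el [x] := by
    intro x h1 h7
    rw [MulAut.mul_apply, MulAut.conj_apply, inv_inv, mul_inv_rev]
    have both : ∀ x, (x = 1 ∨ x = 3 ∨ x = 4 ∨ x = 6) → ψ (el [x]) = el [x] →
        ke⁻¹ * kb⁻¹ * ψ (el [x]) * (kb * ke) = el [x] := by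
      intro x hx h
      rw [h]
      calc ke⁻¹ * kb⁻¹ * el [x] * (kb * ke) = ke⁻¹ * (kb⁻¹ * (el [x] * kb)) * ke := by group
        _ = el [x] := by
          rw [← fixA x (by omega), inv_mul_cancel_left, mul_assoc, ← fixF x (by omega),
            inv_mul_cancel_left]
    interval_cases x
    · exact both 1 (by omega) ha
    · have hbe : kb⁻¹ * (kb * el [2] * kb⁻¹) * kb = el [2] := by group
      calc ke⁻¹ * kb⁻¹ * ψ (el [2]) * (kb * ke) =
            ke⁻¹ * (kb⁻¹ * (kb * el [2] * kb⁻¹) * kb) * ke := by rw [eb]; group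
        _ = el [2] := by rw [hbe, mul_assoc, ← fixF 2 (by omega), inv_mul_cancel_left]
    · exact both 3 (by omega) hc
    · exact both 4 (by omega) hd
    · have hce : kb * (ke * el [5] * ke⁻¹) = ke * el [5] * ke⁻¹ * kb := by
        have hk : kb * ke = ke * kb := by
          rcases hkb with rfl | rfl
          · rw [one_mul, mul_one]
          · exact (fixF 1 (by omega)).symm
        have hk' : kb * ke⁻¹ = ke⁻¹ * kb := (Commute.inv_right hk).eq
        calc kb * (ke * el [5] * ke⁻¹) = kb * ke * el [5] * ke⁻¹ := by group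
          _ = ke * (kb * el [5]) * ke⁻¹ := by rw [hk]; group
          _ = ke * el [5] * (kb * ke⁻¹) := by rw [fixA 5 (by omega)]; group
          _ = _ := by rw [hk']; group
      calc ke⁻¹ * kb⁻¹ * ψ (el [5]) * (kb * ke) =
            ke⁻¹ * kb⁻¹ * (ke * el [5] * ke⁻¹ * kb) * ke := by rw [ee]; group
        _ = el [5] := by rw [← hce]; group
    · exact both 6 (by omega) hf
  refine ⟨kb * ke, ?_⟩
  have h0 := g_fixed _ hall
  have e1 : MulAut.conj (kb * ke)⁻¹ * ψ = 1 := aut_ext fun x hx => by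
    rw [MulAut.one_apply]
    rcases Nat.eq_zero_or_pos x with rfl | hp
    · exact h0
    · exact hall x hp hx
  rw [map_inv, inv_mul_eq_one] at e1
  exact e1.symm

/-- Every automorphism is inner, or inner times the outer one. -/
theorem exists_form (φ : MulAut Spor.ON) :
    ∃ k, φ = MulAut.conj k ∨ φ = MulAut.conj k * omega := by
  -- `a`
  obtain ⟨m, hm⟩ := involution_conj (sq_map φ 1 (by decide +kernel)) (fun h => by
    rw [← map_one φ, ← el_nil] at h
    exact ne_map φ [1] [] (by decide +kernel) (by decide +kernel) (by decide +kernel) h)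
  set ψ₁ := MulAut.conj m⁻¹ * φ with hψ₁
  have a1 : ψ₁ (el [1]) = el [1] := conj_trans φ 1 hm
  -- `f`
  have hfa : ψ₁ (el [6]) * el [1] = el [1] * ψ₁ (el [6]) := by
    rw [← a1]; exact commute_map ψ₁ 6 1 (by decide +kernel)
  obtain ⟨n, r, hn, hnr⟩ := cent_involution hfa (sq_map ψ₁ 6 (by decide +kernel)) (fun h => by
    rw [← map_one ψ₁, ← el_nil] at h
    exact ne_map ψ₁ [6] [] (by decide +kernel) (by decide +kernel) (by decide +kernel) h)
  set ψ₂ := MulAut.conj n⁻¹ * ψ₁ with hψ₂
  have a2 : ψ₂ (el [1]) = el [1] :=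
    conj_trans ψ₁ 1 (by rw [a1, mul_assoc, ← hn, inv_mul_cancel_left])
  have f2 : ψ₂ (el [6]) = el [6] := by
    rw [conj_trans ψ₁ 6 hnr, repInv]
    have hf2 : ψ₂ (el [6]) = el (repInv r) := conj_trans ψ₁ 6 hnr
    split_ifs with h0 h1
    · rw [repInv, if_pos h0, ← a2] at hf2
      exact absurd hf2 (ne_map ψ₂ [6] [1] (by decide +kernel))
    · rfl
    · exfalso
      rw [repInv, if_neg h0, if_neg h1] at hf2
      have hu : okW u3Word = true := by decide +kernel
      have hua := (com_iff hu okW_one.1).1 (show com u3Word [1] = true by decide +kernel)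
      have huc := (com_iff hu (by decide +kernel : okW [3] = true)).1
        (show com u3Word [3] = true by decide +kernel)
      have hu3 : el u3Word * el u3Word * el u3Word = 1 := by
        rw [← el_append, ← el_append, ← el_nil]; exact el_eq (by decide +kernel)
      have hv := three_free (g := ψ₂.symm (el u3Word))
        (ψ₂.injective (by rw [map_mul, map_mul, MulEquiv.apply_symm_apply, a2]; exact hua))
        (ψ₂.injective (by rw [map_mul, map_mul, MulEquiv.apply_symm_apply, hf2]; exact huc))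
        (by rw [← map_mul, ← map_mul, hu3, map_one])
      have : el u3Word = el [] := by
        rw [el_nil, ← MulEquiv.apply_symm_apply ψ₂ (el u3Word), hv, map_one]
      exact el_ne (by decide +kernel) (by decide +kernel) (by decide +kernel) this
  -- `c` and `d`
  obtain ⟨-, -, -, -, hC, -, -, -, -, hR, -⟩ := ok_lists
  have inAF : ∀ x, com [x] [1] = true → com [x] [6] = true → okW [x] = true →
      ∃ w ∈ cafWords, el w = ψ₂ (el [x]) := by
    intro x h1 h6 hx
    refine mem_cafWords ?_ ?_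
    · rw [← a2]; exact commute_map ψ₂ x 1 h1 hx
    · rw [← f2]; exact commute_map ψ₂ x 6 h6 hx
  obtain ⟨wc, hwc, ec⟩ := inAF 3 (by decide +kernel) (by decide +kernel) (by decide +kernel)
  have hwcok := words hC hwc
  have hc := List.all_eq_true.1 cinv_ok wc hwc
  have hc1 : eqW (wc ++ wc) [] = true := (eq_iff (okW_append hwcok hwcok) okW_nil).2 (by
    rw [el_append, ec, el_nil]; exact sq_map ψ₂ 3 (by decide +kernel))
  have hc2 : eqW wc [] = false := eq_false_of_ne_true fun h => by
    have := (eq_iff hwcok okW_nil).1 h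
    rw [ec, el_nil, ← map_one ψ₂, ← el_nil] at this
    exact ne_map ψ₂ [3] [] (by decide +kernel) (by decide +kernel) (by decide +kernel) this
  simp only [checkCInv, hc1, hc2, Bool.not_true, Bool.false_or, List.any_eq_true,
    Bool.and_eq_true] at hc
  obtain ⟨e, hem, hce, hk, hlen, hk1, hk6, hconj⟩ := hc
  have hlen' : e.2.2 < cReps.length := Nat.ble_eq.mp hlen
  have he1 : okW e.1 = true := by
    have : (cInv.all fun e => okW e.1) = true := by decide +kernel
    exact List.all_eq_true.1 this e hem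
  rw [List.getD_eq_getElem _ _ hlen'] at hconj
  have hk1' := (com_iff hk okW_one.1).1 hk1
  have hk6' := (com_iff hk okW_one.2).1 hk6
  set ψ₃ := MulAut.conj (el e.2.1)⁻¹ * ψ₂ with hψ₃
  have a3 : ψ₃ (el [1]) = el [1] :=
    conj_trans ψ₂ 1 (by rw [a2, mul_assoc, ← hk1', inv_mul_cancel_left])
  have f3 : ψ₃ (el [6]) = el [6] :=
    conj_trans ψ₂ 6 (by rw [f2, mul_assoc, ← hk6', inv_mul_cancel_left])
  have hRok := words hR (List.getElem_mem hlen')
  have c3 : ψ₃ (el [3]) = el cReps[e.2.2] := conj_trans ψ₂ 3 (by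
    have h := (eq_iff (okW_append he1 hk) (okW_append hk hRok)).1 hconj
    rw [el_append, el_append] at h
    rw [← ec, (eq_iff hwcok he1).1 hce, mul_assoc, h, inv_mul_cancel_left])
  obtain ⟨wd, hwd, ed⟩ : ∃ w ∈ cafWords, el w = ψ₃ (el [4]) := by
    refine mem_cafWords ?_ ?_
    · rw [← a3]; exact commute_map ψ₃ 4 1 (by decide +kernel)
    · rw [← f3]; exact commute_map ψ₃ 4 6 (by decide +kernel)
  have hwdok := words hC hwd
  have hp := List.all_eq_true.1 (pair_ok e.2.2 (lengths.2.1 ▸ hlen')) wd hwd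
  have hp1 : eqW (cReps[e.2.2] ++ wd ++ cReps[e.2.2] ++ wd ++ cReps[e.2.2] ++ wd ++
      cReps[e.2.2] ++ wd) [1, 6] = true := by
    refine (eq_iff (okW_append (okW_append (okW_append (okW_append (okW_append (okW_append
      (okW_append hRok hwdok) hRok) hwdok) hRok) hwdok) hRok) hwdok) (by decide +kernel)).2 ?_
    have h := congrArg ψ₃ (el_eq (u := [3] ++ [4] ++ [3] ++ [4] ++ [3] ++ [4] ++ [3] ++ [4])
      (v := [1] ++ [6]) (by decide +kernel))
    simp only [el_append, map_mul, c3, ← ed, a3, f3] at h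
    rw [show [1, 6] = [1] ++ [6] from rfl]
    simp only [el_append]
    exact h
  have hp2 : eqW (wd ++ wd) [] = true := (eq_iff (okW_append hwdok hwdok) okW_nil).2 (by
    rw [el_append, ed, el_nil]; exact sq_map ψ₃ 4 (by decide +kernel))
  simp only [checkPair, force_eq, List.getD_eq_getElem _ _ hlen', hp1, hp2, Bool.not_true,
    Bool.false_or, List.any_eq_true, Bool.and_eq_true] at hp
  obtain ⟨q, hqm, hqi, hqd, hl, hn', hl1, hl6, hqc, hqq⟩ := hp
  have hn'' : q.2.2.2 < cdTargets.length := Nat.ble_eq.mp hn'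
  have hq1 : okW q.2.1 = true := by
    have : (cdPairs.all fun e => okW e.2.1) = true := by decide +kernel
    exact List.all_eq_true.1 this q hqm
  rw [List.getD_eq_getElem _ _ hn''] at hqc hqq
  obtain ⟨htc, htd⟩ : okW cdTargets[q.2.2.2].1 = true ∧ okW cdTargets[q.2.2.2].2 = true := by
    have : (cdTargets.all fun e => okW e.1 && okW e.2) = true := by decide +kernel
    simpa using List.all_eq_true.1 this _ (List.getElem_mem hn'')
  have hl1' := (com_iff hl okW_one.1).1 hl1
  have hl6' := (com_iff hl okW_one.2).1 hl6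
  set ψ₄ := MulAut.conj (el q.2.2.1)⁻¹ * ψ₃ with hψ₄
  have a4 : ψ₄ (el [1]) = el [1] :=
    conj_trans ψ₃ 1 (by rw [a3, mul_assoc, ← hl1', inv_mul_cancel_left])
  have f4 : ψ₄ (el [6]) = el [6] :=
    conj_trans ψ₃ 6 (by rw [f3, mul_assoc, ← hl6', inv_mul_cancel_left])
  have c4 : ψ₄ (el [3]) = el cdTargets[q.2.2.2].1 := conj_trans ψ₃ 3 (by
    have h := (eq_iff (okW_append hRok hl) (okW_append hl htc)).1 hqc
    rw [el_append, el_append] at h
    rw [c3, mul_assoc, h, inv_mul_cancel_left])
  have d4 : ψ₄ (el [4]) = el cdTargets[q.2.2.2].2 := conj_trans ψ₃ 4 (by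
    have h := (eq_iff (okW_append hq1 hl) (okW_append hl htd)).1 hqq
    rw [el_append, el_append] at h
    rw [← ed, (eq_iff hwdok hq1).1 hqd, mul_assoc, h, inv_mul_cancel_left])
  have hφ : φ = MulAut.conj (m * n * el e.2.1 * el q.2.2.1) * ψ₄ := by
    rw [hψ₄, hψ₃, hψ₂, hψ₁]
    simp only [map_mul, map_inv, mul_assoc, mul_inv_cancel_left]
  -- the target
  have hsmall : q.2.2.2 < 2 := by
    by_contra hge
    obtain ⟨v, hv, -, hfit⟩ := exists_eWord ψ₄ a4 f4 _ _ htc htd c4 d4
    have hmem : cdTargets[q.2.2.2] ∈ cdTargets.drop 2 := by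
      rw [List.mem_iff_getElem]
      exact ⟨q.2.2.2 - 2, by rw [List.length_drop]; omega,
        (List.getElem_drop ..).trans (getElem_congr_idx (by omega))⟩
    have h := List.all_eq_true.1 (List.all_eq_true.1 bad_pairs _ hmem) v hv
    rw [hfit] at h
    simp at h
  have key : ∀ (i : Nat) (h : i < cdTargets.length), i = q.2.2.2 →
      ψ₄ (el [3]) = el cdTargets[i].1 ∧ ψ₄ (el [4]) = el cdTargets[i].2 := by
    rintro i h rfl
    exact ⟨c4, d4⟩
  rcases (show q.2.2.2 = 0 ∨ q.2.2.2 = 1 by omega) with h0 | h1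
  · obtain ⟨c5, d5⟩ := key 0 (by decide +kernel) h0.symm
    obtain ⟨k, hk5⟩ := inner_of_fixed ψ₄ a4 c5 d5 f4
    exact ⟨m * n * el e.2.1 * el q.2.2.1 * k, Or.inl (by rw [map_mul, ← hk5]; exact hφ)⟩
  · obtain ⟨c5, d5⟩ := key 1 (by decide +kernel) h1.symm
    have t1 : ∀ x, x < 7 → ψ₄ (el [x]) = el (omImg x) → (omega⁻¹ * ψ₄) (el [x]) = el [x] :=
      fun x hx h => by rw [MulAut.mul_apply, h, ← omega_el hx, MulAut.inv_apply_self]
    obtain ⟨k, hk5⟩ := inner_of_fixed (omega⁻¹ * ψ₄)
      (t1 1 (by norm_num) (a4.trans (el_eq (by decide +kernel))))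
      (t1 3 (by norm_num) (c5.trans (el_eq (by decide +kernel))))
      (t1 4 (by norm_num) (d5.trans (el_eq (by decide +kernel))))
      (t1 6 (by norm_num) (f4.trans (el_eq (by decide +kernel))))
    refine ⟨m * n * el e.2.1 * el q.2.2.1 * omega k, Or.inr ?_⟩
    have h4 : ψ₄ = MulAut.conj (omega k) * omega := by
      rw [inv_mul_eq_iff_eq_mul] at hk5
      rw [hk5]
      ext x
      simp [MulAut.mul_apply, MulAut.conj_apply]
    rw [map_mul (MulAut.conj), mul_assoc, ← h4]
    exact hφ

theorem card_out : Nat.card (Cfsg.Out Cfsg.Spor.ON) = 2 := by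
  have hinn : ∀ r, MulAut.conj r ∈ Cfsg.Inn Cfsg.Spor.ON := fun r => ⟨r, rfl⟩
  have hnot : omega ∉ Cfsg.Inn Cfsg.Spor.ON := fun ⟨r, hr⟩ => omega_not_inner r hr
  rw [show Cfsg.Out Cfsg.Spor.ON = (MulAut Cfsg.Spor.ON ⧸ Cfsg.Inn Cfsg.Spor.ON) from rfl,
    Nat.card_eq_two_iff]
  refine ⟨((1 : MulAut Cfsg.Spor.ON) : MulAut Cfsg.Spor.ON ⧸ Cfsg.Inn Cfsg.Spor.ON),
    ((omega : MulAut Cfsg.Spor.ON) : MulAut Cfsg.Spor.ON ⧸ Cfsg.Inn Cfsg.Spor.ON), ?_, ?_⟩
  · intro e
    rw [QuotientGroup.eq, inv_one, one_mul] at e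
    exact hnot e
  · refine Set.eq_univ_of_forall fun q => ?_
    obtain ⟨φ, rfl⟩ := QuotientGroup.mk_surjective q
    obtain ⟨k, rfl | rfl⟩ := exists_form φ
    · exact Or.inl ((QuotientGroup.eq_one_iff _).mpr (hinn k))
    · exact Or.inr (by
        rw [QuotientGroup.mk_mul, (QuotientGroup.eq_one_iff _).mpr (hinn k), one_mul]
        rfl)

end Cfsg.Agent.ONOut
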