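import Cfsg.Agent.ONOut.Defs

/-! Generated: kernel checks. -/

set_option Elab.async false
set_option maxRecDepth 100000

namespace Cfsg.Agent.ONOut

open Cfsg.Agent.CosetCert

theorem pone_0 : allFrom (checkP1) 0 6000 = true := by decide +kernel

theorem pone_6000 : allFrom (checkP1) 6000 6000 = true := by decide +kernel

theorem pone_12000 : allFrom (checkP1) 12000 6000 = true := by decide +kernel

theorem pone_18000 : allFrom (checkP1) 18000 6000 = true := by decide +kernel

theorem pone_24000 : allFrom (checkP1) 24000 6000 = true := by decide +kernel

theorem pone_30000 : allFrom (checkP1) 30000 6000 = true := by decide +kernel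

end Cfsg.Agent.ONOut
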